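import Cfsg.Agent.KnownSimple.Steinberg.CertE6_0
import Cfsg.Agent.Lib.ChevCore.CertE6Table

/-!
The certificates of type E6 as one structure.
-/

set_option autoImplicit false

namespace Cfsg.Agent.KnownSimple.Steinberg

open Cfsg.Lie Cfsg.Agent.ChevCore

theorem slCertE6 : SLCert chevE6 := by
  refine slCert_of_fast chevE6 chkLinkE6 tableE6 fun i hi => ?_
  match i, hi with
  | 0, _ => exact rootE6_0
  | 1, _ => exact rootE6_1
  | 2, _ => exact rootE6_2
  | 3, _ => exact rootE6_3
  | 4, _ => exact rootE6_4
  | 5, _ => exact rootE6_5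
  | _ + 6, h => exact absurd h (by simp [chevE6])

end Cfsg.Agent.KnownSimple.Steinberg
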