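import Cfsg.Agent.KnownSimple.Steinberg.Bound
import Cfsg.Agent.KnownSimple.Steinberg.CertE6
import Cfsg.Agent.Lib.ChevCore.CommAll
import Cfsg.Agent.ChevGroup.Mat.E6

/-!
The simply laced facts for type E6 (helper53).
-/

set_option autoImplicit false

namespace Cfsg.Agent.KnownSimple.Steinberg

open Cfsg.Lie Cfsg.Agent.ChevCore Cfsg.Agent.ChevGroup

theorem sldE6 : SLD chevE6 := ⟨commGoodE6, slCertE6, TypeE6.shape⟩

theorem elimE6 : elimB chevE6 0 3 [1, 0, 2, 0, 1, 2]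
    [[4, 3, 5, 6, 4, 2], [1, 2, 2, 3, 2, 1], [-1, 0, 0, 0, 0, 0], [2, 3, 4, 6, 4, 2], [0, 1, 1, 2, 2, 1], [-2, -1, -2, -2, -1, 0]] = true := by decide +kernel

end Cfsg.Agent.KnownSimple.Steinberg
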