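import Cfsg.Agent.KnownSimple.Steinberg.SLFacts

/-!
Root embeddings of simply laced data with equal structure constants (helper53).
-/

set_option autoImplicit false

namespace Cfsg.Agent.KnownSimple.Steinberg

open Cfsg.Lie Cfsg.Agent.ChevCore

/-- the root map packed in a number, one byte per root -/
noncomputable def iotaK (P r : ℕ) : ℕ := Nat.mod (Nat.div P (Nat.pow 256 r)) 256

/-- `P` embeds the table of `D` in the table of `D'` -/
noncomputable def embB (A A' : Acc) (D D' : ChevalleyDatum) (P : ℕ) : Bool :=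
  kallUpTo D.nroots fun r => forceN r fun r => forceN (iotaK P r) fun r' =>
    forceN (A.negf r) fun nr =>
      Nat.blt r' D'.nroots && Nat.beq (iotaK P nr) (A'.negf r') &&
      kallUpTo D.nroots fun s => forceN s fun s => forceN (iotaK P s) fun s' =>
        Nat.beq s r || (!(Nat.beq s' r') && (Nat.beq s nr ||
          singleK (A.look r s) (fun c z => singleK (A'.look r' s')
            (fun c' z' => Nat.beq c' (iotaK P c) && zEq z' z) false) (A'.look r' s').isEmpty))

/-- What the check of a root embedding gives. -/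
structure EmbFacts (D D' : ChevalleyDatum) (ι : ℕ → ℕ) : Prop where
  lt : ∀ r < D.nroots, ι r < D'.nroots
  neg : ∀ r < D.nroots, ι (D.neg r) = D'.neg (ι r)
  ne : ∀ r < D.nroots, ∀ s < D.nroots, s ≠ r → ι s ≠ ι r
  single : ∀ r < D.nroots, ∀ s < D.nroots, s ≠ r → s ≠ D.neg r →
    ∀ c z, D.chainEntry r s = [(c, z)] → D'.chainEntry (ι r) (ι s) = [(ι c, z)]
  empty : ∀ r < D.nroots, ∀ s < D.nroots, s ≠ r → s ≠ D.neg r →
    D.chainEntry r s = [] → D'.chainEntry (ι r) (ι s) = []

theorem embFacts_of_fast {D D' : ChevalleyDatum} {P : Packed} {P' : Packed} {N : ℕ}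
    (hl : chkLink D P = true) (hl' : chkLink D' P' = true)
    (h : embB (fast D P) (fast D' P') D D' N = true) : EmbFacts D D' (iotaK N) := by
  rw [(fast_eq_std hl).1, (fast_eq_std hl').1] at h
  simp only [embB, kallUpTo_iff, forceN_eq, Bool.and_eq_true, std_negf, std_look,
    Bool.or_eq_true] at h
  have hs : ∀ r < D.nroots, ∀ s < D.nroots, s ≠ r →
      (Nat.beq (iotaK N s) (iotaK N r) = false) ∧ (s ≠ D.neg r →
        singleK (D.chainEntry r s) (fun c z => singleK (D'.chainEntry (iotaK N r) (iotaK N s))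
          (fun c' z' => Nat.beq c' (iotaK N c) && zEq z' z) false)
          (D'.chainEntry (iotaK N r) (iotaK N s)).isEmpty = true) := by
    intro r hr s hs hne
    obtain ⟨h1, h2⟩ := ((h r hr).2 s hs).resolve_left fun e => hne (Nat.eq_of_beq_eq_true e)
    exact ⟨by simpa using h1, fun hn => h2.resolve_left fun e => hn (Nat.eq_of_beq_eq_true e)⟩
  refine ⟨fun r hr => ?_, fun r hr => Nat.eq_of_beq_eq_true (h r hr).1.2,
    fun r hr s hs' hne e => ?_, fun r hr s hs' hne hn c z e => ?_, fun r hr s hs' hne hn e => ?_⟩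
  · simpa [Nat.blt_eq] using (h r hr).1.1
  · have := (hs r hr s hs' hne).1
    rw [e, Nat.beq_refl] at this
    cases this
  · have h1 := (hs r hr s hs' hne).2 hn
    rw [e, singleK_iff] at h1
    obtain ⟨h2, -⟩ | ⟨c', z', h2, h3⟩ := h1
    · simp at h2
    · simp only [List.cons.injEq, Prod.mk.injEq, and_true] at h2
      obtain ⟨rfl, rfl⟩ := h2
      rw [singleK_iff] at h3
      obtain ⟨-, h4⟩ | ⟨c', z', h4, h5⟩ := h3
      · cases h4
      · simp only [Bool.and_eq_true, zEq_iff] at h5
        rw [h4, Nat.eq_of_beq_eq_true h5.1, h5.2]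
  · have h1 := (hs r hr s hs' hne).2 hn
    rw [e, singleK_iff] at h1
    obtain ⟨-, h2⟩ | ⟨c', z', h2, -⟩ := h1
    · exact List.isEmpty_iff.1 h2
    · simp at h2

end Cfsg.Agent.KnownSimple.Steinberg
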