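import Cfsg.Agent.KnownSimple.Steinberg.StGroup
import Cfsg.Agent.KnownSimple.Steinberg.Emb

/-!
The centre of the universal group survives: it maps faithfully into the Chevalley group of a bigger
type (helper53).
-/

set_option autoImplicit false

namespace Cfsg.Agent.KnownSimple.Steinberg

open Cfsg Cfsg.Lie Cfsg.Agent.ChevCore Cfsg.Agent.ChevGroup

variable {D : ChevalleyDatum} {F : Type*} [Field F]

theorem prod_diag {D' : ChevalleyDatum} (hD' : Good D') {l : ℕ} (φ : (Fin l → Fˣ) →* GL D'.Idx F)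
    (q : Fin l → ℕ) (hq : ∀ i, q i < D'.nroots)
    (h : ∀ i (c : Fˣ), φ (Pi.mulSingle i c) = hg D' F (q i) (c : F)) (c : Fin l → Fˣ) (a : D'.Idx) :
    (φ c : Matrix D'.Idx D'.Idx F) a a = ((∏ i, c i ^ wp D' (q i) a : Fˣ) : F) := by
  classical
  suffices hsuff : ∀ S : Finset (Fin l),
      (φ (∏ i ∈ S, Pi.mulSingle i (c i)) : Matrix D'.Idx D'.Idx F) =
        Matrix.diagonal fun a => ((∏ i ∈ S, c i ^ wp D' (q i) a : Fˣ) : F) by
    have := hsuff Finset.univ
    rw [Finset.univ_prod_mulSingle] at this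
    rw [this, Matrix.diagonal_apply_eq]
  intro S
  induction S using Finset.induction_on with
  | empty => simp
  | insert i S hi ih =>
    rw [Finset.prod_insert hi, map_mul, Units.val_mul, ih, h, hD'.hg_eq_diag (hq i) (c i).ne_zero,
      Matrix.diagonal_mul_diagonal]
    congr 1
    funext a
    simp [Finset.prod_insert hi, hDiag]

/-- An embedding of the roots gives a map of the presented group. -/
theorem lift_emb {D' : ChevalleyDatum} {ι : ℕ → ℕ} (hS : SLD D) (hS' : SLD D')
    (hι : EmbFacts D D' ι) {g : FreeGroup (Fin D.nroots × F)} (hg : g ∈ D.steinbergRels F) :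
    FreeGroup.lift (fun p : Fin D.nroots × F => xg D' F (ι p.1.val) p.2) g = 1 := by
  have hD := hS.good.toGood
  have hD' := hS'.good.toGood
  set L := FreeGroup.lift (fun p : Fin D.nroots × F => xg D' F (ι p.1.val) p.2)
  have hX : ∀ {r : ℕ}, r < D.nroots → ∀ t, L (D.stX r t) = xg D' F (ι r) t := fun hr t => by
    rw [ChevalleyDatum.stX, dif_pos hr, FreeGroup.lift_apply_of]
  rcases hg with (⟨r, t, u, hr, rfl⟩ | ⟨r, s, t, u, hr, hs, h1, h2, rfl⟩) | ⟨r, a, b, hr, ha, hb, rfl⟩
  · rw [map_mul, map_mul, map_inv, hX hr, hX hr, hX hr, hD'.xg_add, mul_inv_cancel]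
  · have h1' := hι.ne r hr s hs h1
    have h2' : ι s ≠ D'.neg (ι r) := by
      rw [← hι.neg r hr]
      exact hι.ne _ (hD.neg_lt hr) s hs h2
    simp only [map_mul, map_inv, hX hr, hX hs]
    rw [mul_inv_eq_one, mul_assoc _ (xg D' F (ι s) u) (xg D' F (ι r) t),
      hS'.good.xg_comm (hι.lt r hr) (hι.lt s hs) h1' h2', mul_assoc (xg D' F (ι r) t), mul_assoc,
      inv_mul_cancel_left, inv_mul_cancel_left, hS.commWord_eq hr hs,
      hS'.commWord_eq (hι.lt r hr) (hι.lt s hs)]
    rcases hS.entry_cases hr hs with e | ⟨c, z, e, hc, -⟩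
    · rw [e, hι.empty r hr s hs h1 h2 e]
      simp [wordG, ChevalleyDatum.stWord]
    · rw [e, hι.single r hr s hs h1 h2 c z e]
      simp [wordG, ChevalleyDatum.stWord, hX hc]
  · have hH : ∀ t, L (D.stH r t) = hg D' F (ι r) t := fun t => by
      simp only [ChevalleyDatum.stH, ChevalleyDatum.stWord, ChevalleyDatum.hWord,
        ChevalleyDatum.nWord, List.map_append, List.map_cons, List.map_nil, List.prod_append,
        List.prod_cons, List.prod_nil, mul_one, map_mul, hX hr, hX (hD.neg_lt hr),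
        hι.neg r hr, hg, ng, mul_assoc]
    rw [map_mul, map_mul, map_inv, hH, hH, hH, hD'.hg_mul (hι.lt r hr) ha hb, mul_inv_cancel]

/-- `e` solves the Cartan equations modulo `m`, and its image in `D'` is faithful at the root `w`. -/
def centreB (D D' : ChevalleyDatum) (ι : ℕ → ℕ) (m : ℕ) (e : List ℕ) (w : ℕ) : Bool :=
  decide (∀ s < D.nroots,
    (((List.range D.rank).map fun i => ((e.getD i 0 : ℕ) : ℤ) * D.cartan i s).sum) % (m : ℤ) = 0) &&
  decide (D.rank ≤ D'.rank) && decide (w < D'.nroots) &&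
  decide ((((List.range D.rank).map fun i => ((e.getD i 0 : ℕ) : ℤ) * D'.cartan i w).sum) % (m : ℤ) =
    1 % (m : ℤ)) &&
  decide (∀ i < D.rank, ι (D.simple i) = D'.simple i)

theorem exists_units_orderOf [Fintype F] {g : ℕ} (hg : g ∣ Fintype.card F - 1) :
    ∃ x : Fˣ, orderOf x = g := by
  classical
  obtain ⟨y, hy⟩ := IsCyclic.exists_ofOrder_eq_natCard (α := Fˣ)
  have hn : Nat.card Fˣ = Fintype.card F - 1 := by
    rw [Nat.card_eq_fintype_card, Fintype.card_units]
  refine ⟨y ^ (orderOf y / g), orderOf_pow_orderOf_div (orderOf_pos y).ne' ?_⟩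
  rwa [hy, hn]

theorem hasCyclicSchurMultiplier_of_emb [Fintype F] {D' : ChevalleyDatum} {ι : ℕ → ℕ} (hS : SLD D)
    (T : Model D) (hS' : SLD D') (hι : EmbFacts D D' ι) {k m : ℕ} {e : List ℕ}
    {W : List (List ℤ)} (h : elimB D k m e W = true) (hm : 0 < m) {w : ℕ}
    (hc : centreB D D' ι m e w = true) :
    HasCyclicSchurMultiplier ↥(D.group F) (Nat.gcd m (Fintype.card F - 1)) := by
  classical
  have hD := hS.good.toGood
  have hD' := hS'.good.toGood
  simp only [centreB, Bool.and_eq_true, decide_eq_true_eq] at hc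
  obtain ⟨⟨⟨⟨hc0, hrk⟩, hw⟩, hc1⟩, hsimp⟩ := hc
  set S := stData (F := F) hS
  set R := S.relSys hS
  have hgen := S.closure_gen hS
  set g := Nat.gcd m (Fintype.card F - 1) with hg
  have hg0 : 0 < g := Nat.gcd_pos_of_pos_left _ hm
  obtain ⟨x, hx⟩ := exists_units_orderOf (F := F) (g := g) (Nat.gcd_dvd_right _ _)
  have hxm : ∀ z : ℤ, z % (m : ℤ) = 0 → x ^ z = 1 := fun z hz => by
    rw [← orderOf_dvd_iff_zpow_eq_one, hx]
    exact (Int.natCast_dvd_natCast.2 (Nat.gcd_dvd_left _ _)).trans (Int.dvd_of_emod_eq_zero hz)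
  set c : Fin D.rank → Fˣ := fun i => x ^ ((e.getD i.val 0 : ℕ) : ℤ) with hcdef
  set z := R.theta hS T hgen c
  have hsum : ∀ (f : ℕ → ℤ), ∏ i : Fin D.rank, c i ^ f i.val =
      x ^ ((List.range D.rank).map fun i => ((e.getD i 0 : ℕ) : ℤ) * f i).sum := fun f => by
    rw [show (∏ i : Fin D.rank, c i ^ f i.val) =
      ∏ i : Fin D.rank, x ^ (((e.getD i.val 0 : ℕ) : ℤ) * f i.val) from
      Finset.prod_congr rfl fun i _ => by rw [hcdef, zpow_mul], prod_zpow_sum]
    congr 1
    rw [← List.sum_toFinset _ List.nodup_range, List.toFinset_range, Finset.sum_range]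
  have hz : R.π z = 1 := by
    refine Units.ext ?_
    obtain ⟨χ, -, hd⟩ := R.diag_of_H hS T (g := z) (by
      have h0 : z ∈ (R.theta hS T hgen).range := ⟨c, rfl⟩
      rw [R.theta_range_eq hS T hgen] at h0
      refine (iSup_le fun i => ?_ : _ ≤ (R.rootRel hS T).H) h0
      rintro _ ⟨t, rfl⟩
      exact R.hh_mem_H hS T (hD.simple_lt i.isLt) t.ne_zero)
    rw [hd, Units.val_one, ← Matrix.diagonal_one]
    congr 1
    funext a
    have e1 := prod_diag hD (R.π.comp (R.theta hS T hgen)) (fun i => D.simple i.val)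
      (fun i => hD.simple_lt i.isLt) (fun i t => by
        rw [MonoidHom.comp_apply, R.theta_single, R.π_hh hS (hD.simple_lt i.isLt)]) c a
    rw [MonoidHom.comp_apply, hd, Matrix.diagonal_apply_eq] at e1
    rw [e1]
    rcases a with j | s
    · simp [wp]
    · simp only [wp, Sum.elim_inr, hD.pairing_simple (Fin.isLt _)]
      rw [hsum fun i => D.cartan i s.val, hxm _ (hc0 s.val s.isLt), Units.val_one]
  let Ψ : D.SteinbergGroup F →* GL D'.Idx F :=
    PresentedGroup.toGroup (f := fun p : Fin D.nroots × F => xg D' F (ι p.1.val) p.2)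
      fun _ h => lift_emb hS hS' hι h
  have hΨy : ∀ r, r < D.nroots → ∀ t, Ψ (R.y r t) = xg D' F (ι r) t := fun r hr t => by
    show Ψ (PresentedGroup.mk _ (D.stX r t)) = _
    rw [ChevalleyDatum.stX, dif_pos hr]
    exact PresentedGroup.toGroup.of _
  have hn : ∀ n : ℕ, z ^ n = 1 → x ^ n = 1 := by
    intro n hzn
    have hsl : ∀ i : Fin D.rank, D'.simple i.val < D'.nroots := fun i =>
      hD'.simple_lt (i.isLt.trans_le hrk)
    have e1 := prod_diag hD' (Ψ.comp (R.theta hS T hgen)) (fun i => D'.simple i.val) hsl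
      (fun i t => by
        have hp := hD.simple_lt i.isLt
        rw [MonoidHom.comp_apply, R.theta_single, RelSys.hh, RelSys.nn, RelSys.nn]
        simp only [map_mul, hΨy _ hp, hΨy _ (hD.neg_lt hp), hι.neg _ hp, hsimp i.val i.isLt]
        rfl) (c ^ n) (Sum.inr ⟨w, hw⟩)
    rw [MonoidHom.comp_apply, map_pow, hzn, map_one, Units.val_one, Matrix.one_apply_eq] at e1
    have e2 : ∏ i : Fin D.rank, c i ^ D'.cartan i.val w = x := by
      rw [hsum fun i => D'.cartan i w]
      set d := ((List.range D.rank).map fun i => ((e.getD i 0 : ℕ) : ℤ) * D'.cartan i w).sum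
      have h0 : (d - 1) % (m : ℤ) = 0 := Int.emod_eq_emod_iff_emod_sub_eq_zero.1 hc1
      have h3 : x ^ d = x ^ (d - 1) * x := by rw [← zpow_add_one, sub_add_cancel]
      rw [h3, hxm _ h0, one_mul]
    refine Units.ext ?_
    rw [Units.val_one, e1]
    congr 1
    simp only [wp, Sum.elim_inr, Pi.pow_apply]
    conv_lhs => rw [← e2, ← Finset.prod_pow]
    refine Finset.prod_congr rfl fun i _ => ?_
    rw [hD'.pairing_simple (i.isLt.trans_le hrk), ← zpow_natCast, ← zpow_natCast, ← zpow_mul,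
      ← zpow_mul, mul_comm]
    simp only [hcdef, ← zpow_natCast, ← zpow_mul]
    congr 1
    ring
  obtain ⟨hfk, hle⟩ := R.card_ker_le hS T hgen h hm
  have hstem := S.stem hS T
  haveI : Finite (D.SteinbergGroup F) := S.finite hS T h hm
  set σ := S.toGp hS
  have hzk : z ∈ σ.ker := by rw [S.ker_toGp hS]; exact hz
  have hzo : g ≤ orderOf (⟨z, hzk⟩ : σ.ker) := by
    refine Nat.le_of_dvd (orderOf_pos _) (hx ▸ ?_)
    refine orderOf_dvd_of_pow_eq_one (hn _ ?_)
    exact congrArg Subtype.val (pow_orderOf_eq_one (⟨z, hzk⟩ : σ.ker))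
  have hle' : Nat.card σ.ker ≤ g := by rw [S.ker_toGp hS]; exact hle
  have hcard : Nat.card σ.ker = g := le_antisymm hle' (hzo.trans orderOf_le_card)
  haveI : IsCyclic σ.ker := isCyclic_of_orderOf_eq_card _
    (le_antisymm (orderOf_le_card) (hcard.le.trans hzo))
  refine Schur.hasSchurMultiplier_of_card_le σ hstem
    ((zmodCyclicMulEquiv (inferInstance : IsCyclic σ.ker)).symm.trans (by rw [hcard]; exact MulEquiv.refl _))
    fun Γ _ _ τ hτ => ?_
  rw [Nat.card_congr Multiplicative.toAdd, Nat.card_zmod]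
  exact card_stem_ker_le hS T h hm Γ τ hτ

end Cfsg.Agent.KnownSimple.Steinberg
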