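import Cfsg.Agent.KnownSimple.Steinberg.Emb
import Cfsg.Agent.Lib.ChevCore.PackedE6
import Cfsg.Agent.Lib.ChevCore.PackedE7
import Cfsg.Agent.Lib.ChevCore.CertE6Table
import Cfsg.Agent.Lib.ChevCore.CertE7Table

/-!
The embedding of the roots of type E6 in those of type E7 (helper53).
-/

set_option autoImplicit false

namespace Cfsg.Agent.KnownSimple.Steinberg

open Cfsg.Lie Cfsg.Agent.ChevCore

/-- the packed root map -/
def packE6E7 : ℕ := 115405654456261975262062563519370248459153122930113167453877683025277421099657617807453909370359699450632505700151916789492471309899131733474062792756324204620920313313298950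

theorem embE6E7 : EmbFacts chevE6 chevE7 (iotaK packE6E7) :=
  embFacts_of_fast chkLinkE6 chkLinkE7 (by decide +kernel)

end Cfsg.Agent.KnownSimple.Steinberg
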