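import Cfsg.Agent.KnownSimple.Steinberg.CertE7_0
import Cfsg.Agent.KnownSimple.Steinberg.CertE7_1
import Cfsg.Agent.Lib.ChevCore.CertE7Table

/-!
The certificates of type E7 as one structure.
-/

set_option autoImplicit false

namespace Cfsg.Agent.KnownSimple.Steinberg

open Cfsg.Lie Cfsg.Agent.ChevCore

theorem slCertE7 : SLCert chevE7 := by
  refine slCert_of_fast chevE7 chkLinkE7 tableE7 fun i hi => ?_
  match i, hi with
  | 0, _ => exact rootE7_0
  | 1, _ => exact rootE7_1
  | 2, _ => exact rootE7_2
  | 3, _ => exact rootE7_3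
  | 4, _ => exact rootE7_4
  | 5, _ => exact rootE7_5
  | 6, _ => exact rootE7_6
  | _ + 7, h => exact absurd h (by simp [chevE7])

end Cfsg.Agent.KnownSimple.Steinberg
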