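import Cfsg.Agent.KnownSimple.Steinberg.Bound
import Cfsg.Agent.KnownSimple.Steinberg.CertE7
import Cfsg.Agent.Lib.ChevCore.CommAll
import Cfsg.Agent.ChevGroup.Mat.E7

/-!
The simply laced facts for type E7 (helper53).
-/

set_option autoImplicit false

namespace Cfsg.Agent.KnownSimple.Steinberg

open Cfsg.Lie Cfsg.Agent.ChevCore Cfsg.Agent.ChevGroup

theorem sldE7 : SLD chevE7 := ⟨commGoodE7, slCertE7, TypeE7.shape⟩

theorem elimE7 : elimB chevE7 1 2 [0, 1, 0, 0, 1, 0, 1]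
    [[2, 2, 3, 4, 3, 2, 1], [4, 7, 8, 12, 9, 6, 3], [3, 4, 6, 8, 6, 4, 2], [4, 6, 8, 12, 9, 6, 3], [1, 1, 2, 3, 3, 2, 1], [2, 3, 4, 6, 5, 4, 2], [-1, -2, -2, -3, -2, -1, 0]] = true := by decide +kernel

end Cfsg.Agent.KnownSimple.Steinberg
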