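import Cfsg.Agent.KnownSimple.Steinberg.Lower
import Cfsg.Agent.KnownSimple.Steinberg.EmbE6E7
import Cfsg.Agent.KnownSimple.Steinberg.SLE6
import Cfsg.Agent.KnownSimple.Steinberg.SLE7

/-!
The Schur multiplier of the Chevalley groups of type E6 (helper53).
-/

set_option autoImplicit false

namespace Cfsg.Agent.KnownSimple.Steinberg

open Cfsg Cfsg.Lie Cfsg.Agent.ChevCore Cfsg.Agent.ChevGroup

theorem centreE6 : centreB chevE6 chevE7 (iotaK packE6E7) 3 [1, 0, 2, 0, 1, 2] 63 = true := by decide +kernel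

theorem multiplierE6 {F : Type*} [Field F] [Fintype F] :
    HasCyclicSchurMultiplier ↥(chevE6.group F) (Nat.gcd 3 (Fintype.card F - 1)) :=
  hasCyclicSchurMultiplier_of_emb sldE6 TypeE6.model sldE7 embE6E7 elimE6 (by norm_num) centreE6

end Cfsg.Agent.KnownSimple.Steinberg
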