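import Cfsg.Agent.Lib.ChevCore.CommDefs

/-!
Table certificates for simply laced data used for central extensions (helper53):
every root which is orthogonal (or makes no root) with a simple root `p` is a bracket of two roots
commuting with `p`, and the decompositions of `p` as a sum of two roots are connected.
-/

set_option autoImplicit false

namespace Cfsg.Agent.KnownSimple.Steinberg

open Cfsg.Lie Cfsg.Agent.ChevCore

/-- case on a list with at most one entry -/
noncomputable def singleK (L : SVec) (k : ℕ → ℤ → Bool) (k0 : Bool) : Bool :=
  forceS L fun L => List.rec k0 (fun e rest _ => rest.isEmpty && k e.1 e.2) L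

theorem singleK_iff {L : SVec} {k : ℕ → ℤ → Bool} {k0 : Bool} :
    singleK L k k0 = true ↔ (L = [] ∧ k0 = true) ∨ ∃ c z, L = [(c, z)] ∧ k c z = true := by
  rw [singleK, forceS_eq]
  rcases L with _ | ⟨⟨c, z⟩, _ | ⟨f, L⟩⟩ <;> simp

variable (A : Acc)

/-- the bracket of `b` and `a` is the root `c` -/
noncomputable def hit (a b c : ℕ) : Bool :=
  singleK (A.look a b) (fun c' _ => Nat.beq c' c) false

theorem hit_iff {a b c : ℕ} : hit A a b c = true ↔ ∃ z, A.look a b = [(c, z)] := by
  rw [hit, singleK_iff]
  constructor
  · rintro (⟨-, h⟩ | ⟨c', z, h, h'⟩)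
    · exact absurd h (by simp)
    · obtain rfl := Nat.eq_of_beq_eq_true h'
      exact ⟨z, h⟩
  · rintro ⟨z, h⟩
    exact Or.inr ⟨c, z, h, Nat.beq_refl c⟩

variable (D : ChevalleyDatum)

/-- order conditions on `c = r + s` -/
noncomputable def ordK (n r s c : ℕ) : Bool :=
  (!(Nat.ble n (2 * r) && Nat.ble n (2 * s)) || (Nat.blt r c && Nat.blt s c)) &&
  (!(Nat.blt (2 * r) n && Nat.blt (2 * s) n) || (Nat.blt c r && Nat.blt c s))

/-- the global table conditions -/
noncomputable def chkTable : Bool :=
  kallUpTo D.nroots fun r => forceN r fun r => kallUpTo D.nroots fun s => forceN s fun s =>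
    singleK (A.look r s) (fun c z => forceN c fun c =>
      Nat.blt c D.nroots && (zEq z 1 || zEq z (-1)) && ordK D.nroots r s c &&
        hit A (A.negf s) c r && hit A s r c) true

/-- commutation witnesses at a simple root -/
noncomputable def chkWit (i : ℕ) : Bool :=
  forceN (D.simple i) fun p => forceN (A.negf p) fun np =>
    kallUpTo D.nroots fun s => forceN s fun s =>
      Nat.beq s np || !(A.look p s).isEmpty ||
        kanyUpTo D.nroots fun a => forceN a fun a =>
          singleK (A.look (A.negf a) s) (fun b _ => forceN b fun b =>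
            Nat.blt b D.nroots && hit A b a s && commOK A p a && commOK A p b) false

/-- evaluate a list of pairs -/
noncomputable def forceD {α : Type} (L : List (ℕ × ℕ)) (k : List (ℕ × ℕ) → α) : α :=
  List.rec (fun k => k [])
    (fun e _ acc k => forceN e.1 fun a => forceN e.2 fun b => acc fun L' => k ((a, b) :: L')) L k

theorem forceD_eq {α : Type} (L : List (ℕ × ℕ)) (k : List (ℕ × ℕ) → α) : forceD L k = k L := by
  induction L generalizing k with
  | nil => rfl
  | cons e L ih =>
    show forceN e.1 (fun a => forceN e.2 fun b => forceD L fun L' => k ((a, b) :: L')) = _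
    rw [forceN_eq, forceN_eq, ih]

/-- the decompositions `a + b = p` -/
noncomputable def decsK (p : ℕ) : List (ℕ × ℕ) :=
  kbind (fun a => List.rec [] (fun e _ _ => [(a, e.1)]) (A.look (A.negf a) p)) (ktab D.nroots id)

/-- two decompositions differ by one associativity step -/
noncomputable def linkK (u v : ℕ × ℕ) : Bool :=
  singleK (A.look (A.negf u.1) v.2) (fun b _ => forceN b fun b =>
    Nat.blt b D.nroots && hit A b u.1 v.2 && hit A b v.1 u.2 && commOK A u.1 v.1 &&
      commOK A v.2 u.2) false

/-- filter -/
noncomputable def keepK (f : ℕ × ℕ → Bool) (L : List (ℕ × ℕ)) : List (ℕ × ℕ) :=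
  List.rec [] (fun a _ acc => bif f a then a :: acc else acc) L

theorem keepK_eq (f : ℕ × ℕ → Bool) (L : List (ℕ × ℕ)) : keepK f L = L.filter f := by
  induction L with
  | nil => rfl
  | cons a L ih =>
    show (bif f a then a :: keepK f L else keepK f L) = _
    rw [ih, List.filter_cons]
    cases f a <;> rfl

/-- breadth first search -/
noncomputable def reachK : ℕ → List (ℕ × ℕ) → List (ℕ × ℕ) → Bool :=
  fun fuel => Nat.rec (fun _ T => T.isEmpty)
    (fun _ acc R T => T.isEmpty ||
      forceD (keepK (fun v => kany R fun u => linkK A D u v) T) (fun N =>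
        forceD (keepK (fun v => !(kany R fun u => linkK A D u v)) T) fun T' => acc (kapp N R) T'))
    fuel

/-- connectivity of the decompositions of a simple root -/
noncomputable def chkConn (i : ℕ) : Bool :=
  forceN (D.simple i) fun p => forceD (decsK A D p) fun L =>
    kall L (fun u => forceN u.1 fun a => forceN u.2 fun b =>
      hit A b a p && commOK A a p) &&
    List.rec false (fun u T _ => (kany T fun v => linkK A D v u) && reachK A D D.nroots [u] T) L

/-- the root elements of `±p` keep every pair `{s, w_p s}` invariant -/
noncomputable def chkTri (i : ℕ) : Bool :=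
  forceN (D.simple i) fun p => forceN (A.negf p) fun np =>
    kallUpTo D.nroots fun s => forceN s fun s =>
      Nat.beq s p || Nat.beq s np || forceN (reflW D A i s) fun d =>
        (Nat.beq d s || commOK A s d) &&
          kall [(p, (s, d)), (p, (d, s)), (np, (s, d)), (np, (d, s))] fun e =>
            (A.look e.1 e.2.1).isEmpty || hit A e.1 e.2.1 e.2.2

/-- some simple root has Cartan integer `-1` with `p` -/
noncomputable def chkNbr (i : ℕ) : Bool :=
  forceN (D.simple i) fun p => kanyUpTo D.rank fun j => zEq (A.cart j p) (-1)

/-- all checks of one simple root -/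
noncomputable def chkRoot (i : ℕ) : Bool := chkWit A D i && chkConn A D i && chkTri A D i && chkNbr A D i

/-- The properties that follow from the checks (through the datum's own accessors). -/
structure SLCert : Prop where
  table : chkTable (std D) D = true
  root : ∀ i < D.rank, chkRoot (std D) D i = true

theorem slCert_of_fast {P : Packed} (hl : chkLink D P = true)
    (ht : chkTable (fast D P) D = true) (hr : ∀ i < D.rank, chkRoot (fast D P) D i = true) :
    SLCert D := by
  rw [(fast_eq_std hl).1] at ht hr
  exact ⟨ht, hr⟩

end Cfsg.Agent.KnownSimple.Steinberg
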