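import Cfsg.Agent.KnownSimple.Steinberg.Cert
import Cfsg.Agent.Lib.ChevCore.PackedE6

/-!
Kernel evaluation of the decomposition certificates of type E6.
-/

set_option autoImplicit false

namespace Cfsg.Agent.KnownSimple.Steinberg

open Cfsg.Lie Cfsg.Agent.ChevCore

theorem tableE6 : chkTable (fast chevE6 packedE6) chevE6 = true := by decide +kernel

theorem rootE6_0 : chkRoot (fast chevE6 packedE6) chevE6 0 = true := by decide +kernel

theorem rootE6_1 : chkRoot (fast chevE6 packedE6) chevE6 1 = true := by decide +kernel

theorem rootE6_2 : chkRoot (fast chevE6 packedE6) chevE6 2 = true := by decide +kernel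

theorem rootE6_3 : chkRoot (fast chevE6 packedE6) chevE6 3 = true := by decide +kernel

theorem rootE6_4 : chkRoot (fast chevE6 packedE6) chevE6 4 = true := by decide +kernel

theorem rootE6_5 : chkRoot (fast chevE6 packedE6) chevE6 5 = true := by decide +kernel

end Cfsg.Agent.KnownSimple.Steinberg
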