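import Cfsg.Agent.KnownSimple.Steinberg.Cert
import Cfsg.Agent.Lib.ChevCore.PackedE7

/-!
Kernel evaluation of the decomposition certificates of type E7.
-/

set_option autoImplicit false

namespace Cfsg.Agent.KnownSimple.Steinberg

open Cfsg.Lie Cfsg.Agent.ChevCore

theorem tableE7 : chkTable (fast chevE7 packedE7) chevE7 = true := by decide +kernel

theorem rootE7_0 : chkRoot (fast chevE7 packedE7) chevE7 0 = true := by decide +kernel

theorem rootE7_1 : chkRoot (fast chevE7 packedE7) chevE7 1 = true := by decide +kernel

theorem rootE7_2 : chkRoot (fast chevE7 packedE7) chevE7 2 = true := by decide +kernel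

theorem rootE7_3 : chkRoot (fast chevE7 packedE7) chevE7 3 = true := by decide +kernel

end Cfsg.Agent.KnownSimple.Steinberg
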