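import Cfsg.Agent.KnownSimple.Steinberg.CertE8_0
import Cfsg.Agent.KnownSimple.Steinberg.CertE8_1
import Cfsg.Agent.KnownSimple.Steinberg.CertE8_2
import Cfsg.Agent.KnownSimple.Steinberg.CertE8_3
import Cfsg.Agent.Lib.ChevCore.CertE8Table

/-!
The certificates of type E8 as one structure.
-/

set_option autoImplicit false

namespace Cfsg.Agent.KnownSimple.Steinberg

open Cfsg.Lie Cfsg.Agent.ChevCore

theorem slCertE8 : SLCert chevE8 := by
  refine slCert_of_fast chevE8 chkLinkE8 tableE8 fun i hi => ?_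
  match i, hi with
  | 0, _ => exact rootE8_0
  | 1, _ => exact rootE8_1
  | 2, _ => exact rootE8_2
  | 3, _ => exact rootE8_3
  | 4, _ => exact rootE8_4
  | 5, _ => exact rootE8_5
  | 6, _ => exact rootE8_6
  | 7, _ => exact rootE8_7
  | _ + 8, h => exact absurd h (by simp [chevE8])

end Cfsg.Agent.KnownSimple.Steinberg
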