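import Cfsg.Agent.KnownSimple.Steinberg.Cert
import Cfsg.Agent.Lib.ChevCore.PackedE8

/-!
Kernel evaluation of the decomposition certificates of type E8.
-/

set_option autoImplicit false

namespace Cfsg.Agent.KnownSimple.Steinberg

open Cfsg.Lie Cfsg.Agent.ChevCore

theorem tableE8 : chkTable (fast chevE8 packedE8) chevE8 = true := by decide +kernel

theorem rootE8_0 : chkRoot (fast chevE8 packedE8) chevE8 0 = true := by decide +kernel

theorem rootE8_1 : chkRoot (fast chevE8 packedE8) chevE8 1 = true := by decide +kernel

end Cfsg.Agent.KnownSimple.Steinberg
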