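import Cfsg.Agent.KnownSimple.Steinberg.Emb
import Cfsg.Agent.Lib.ChevCore.PackedE7
import Cfsg.Agent.Lib.ChevCore.PackedE8
import Cfsg.Agent.Lib.ChevCore.CertE7Table
import Cfsg.Agent.Lib.ChevCore.CertE8Table

/-!
The embedding of the roots of type E7 in those of type E8 (helper53).
-/

set_option autoImplicit false

namespace Cfsg.Agent.KnownSimple.Steinberg

open Cfsg.Lie Cfsg.Agent.ChevCore

/-- the packed root map -/
def packE7E8 : ℕ := 2430810997004866598444401240238742686892022899567541319682954425287167460260763023210395046641608905787741593400045937092517025071470630088513929100882265937055017271469174884988986077504446333275414838194854552575824525579080592657593264928194488327118387149962421491912665312065144265886464730302321677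

theorem embE7E8 : EmbFacts chevE7 chevE8 (iotaK packE7E8) :=
  embFacts_of_fast chkLinkE7 chkLinkE8 (by decide +kernel)

end Cfsg.Agent.KnownSimple.Steinberg
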