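import Cfsg.Agent.KnownSimple.Steinberg.Bound
import Cfsg.Agent.KnownSimple.Steinberg.CertE8
import Cfsg.Agent.Lib.ChevCore.CommAll
import Cfsg.Agent.ChevGroup.Mat.E8

/-!
The simply laced facts for type E8 (helper53).
-/

set_option autoImplicit false

namespace Cfsg.Agent.KnownSimple.Steinberg

open Cfsg.Lie Cfsg.Agent.ChevCore Cfsg.Agent.ChevGroup

theorem sldE8 : SLD chevE8 := ⟨commGoodE8, slCertE8, TypeE8.shape⟩

theorem elimE8 : elimB chevE8 0 1 [1, 0, 0, 0, 0, 0, 0, 0]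
    [[4, 5, 7, 10, 8, 6, 4, 2], [5, 8, 10, 15, 12, 9, 6, 3], [7, 10, 14, 20, 16, 12, 8, 4],
     [10, 15, 20, 30, 24, 18, 12, 6], [8, 12, 16, 24, 20, 15, 10, 5], [6, 9, 12, 18, 15, 12, 8, 4],
     [4, 6, 8, 12, 10, 8, 6, 3], [2, 3, 4, 6, 5, 4, 3, 2]] = true := by decide +kernel

end Cfsg.Agent.KnownSimple.Steinberg
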