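import Cfsg.Agent.KnownSimple.Steinberg.SLFacts

/-!
In a central extension of a simply laced Chevalley group the root elements have canonical lifts, the
commutators of lifts of two root elements; these satisfy Steinberg's relations (helper53).
-/

set_option autoImplicit false

namespace Cfsg.Agent.KnownSimple.Steinberg

open Cfsg.Lie Cfsg.Agent.ChevCore
open scoped commutatorElement

universe u

/-- Root elements `y_r(t)` in a group over the matrix group, with the relations (R1), (R2) of a simply laced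
datum. -/
structure RelSys (D : ChevalleyDatum) (F : Type*) [Field F] (Γ : Type*) [Group Γ] where
  π : Γ →* GL D.Idx F
  y : ℕ → F → Γ
  π_y : ∀ r, r < D.nroots → ∀ t, π (y r t) = xg D F r t
  y_add : ∀ r, r < D.nroots → ∀ t u, y r (t + u) = y r t * y r u
  comm0 : ∀ r s, r < D.nroots → s < D.nroots → s ≠ D.neg r → D.chainEntry r s = [] →
    ∀ t u, Commute (y r t) (y s u)
  brk : ∀ r s c z, r < D.nroots → s < D.nroots → D.chainEntry r s = [(c, z)] →
    ∀ t u, ⁅y s u, y r t⁆ = y c (-((z : F) * t * u))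

variable {D : ChevalleyDatum} {F : Type*} [Field F]

/-- A central extension with chosen lifts of the root elements. -/
structure CExt (D : ChevalleyDatum) (F : Type*) [Field F] (Γ : Type*) [Group Γ] where
  π : Γ →* GL D.Idx F
  central : π.ker ≤ Subgroup.center Γ
  ℓ : ℕ → F → Γ
  π_ℓ : ∀ r, r < D.nroots → ∀ t, π (ℓ r t) = xg D F r t

namespace CExt

variable {Γ : Type*} [Group Γ] (E : CExt D F Γ)

theorem comm_congr {v w v' w' : Γ} (hv : E.π v = E.π v') (hw : E.π w = E.π w') :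
    ⁅v, w⁆ = ⁅v', w'⁆ := by
  have h1 : v'⁻¹ * v ∈ Subgroup.center Γ := E.central (by simp [MonoidHom.mem_ker, hv])
  have h2 : w'⁻¹ * w ∈ Subgroup.center Γ := E.central (by simp [MonoidHom.mem_ker, hw])
  obtain ⟨a, ha, rfl⟩ : ∃ a ∈ Subgroup.center Γ, v = v' * a := ⟨_, h1, by group⟩
  obtain ⟨b, hb, rfl⟩ : ∃ b ∈ Subgroup.center Γ, w = w' * b := ⟨_, h2, by group⟩
  rw [Subgroup.mem_center_iff] at ha hb
  simp only [commutatorElement_def]
  calc v' * a * (w' * b) * (v' * a)⁻¹ * (w' * b)⁻¹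
      = v' * a * w' * (b * (a⁻¹ * v'⁻¹) * b⁻¹) * w'⁻¹ := by group
    _ = v' * (a * w') * a⁻¹ * v'⁻¹ * w'⁻¹ := by rw [← hb, mul_inv_cancel_right]; group
    _ = _ := by rw [← ha]; group

theorem commute_congr {v w v' w' : Γ} (hv : E.π v = E.π v') (hw : E.π w = E.π w')
    (h : Commute v' w') : Commute v w := by
  rw [← commutatorElement_eq_one_iff_commute] at h ⊢
  rwa [E.comm_congr hv hw]

/-- the lift of `n_w` -/
def N (w : List ℕ) : Γ :=
  (w.map fun i => E.ℓ (D.simple i) 1 * E.ℓ (D.neg (D.simple i)) (-1) * E.ℓ (D.simple i) 1).prod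

theorem π_N (hD : Good D) {w : List ℕ} (hw : ∀ i ∈ w, i < D.rank) : E.π (E.N w) = nw D F w := by
  induction w with
  | nil => simp [N, nw]
  | cons i w ih =>
    have hp := hD.simple_lt (hw i (by simp))
    rw [N, List.map_cons, List.prod_cons, map_mul, ← N, ih (fun j hj => hw j (by simp [hj]))]
    simp [nw, ng, map_mul, E.π_ℓ _ hp, E.π_ℓ _ (hD.neg_lt hp)]

theorem π_N_conj (hD : Good D) {w : List ℕ} (hw : ∀ i ∈ w, i < D.rank) {r : ℕ} (hr : r < D.nroots)
    {g : Γ} {t : F} (hg : E.π g = xg D F r t) :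
    E.π (E.N w * g * (E.N w)⁻¹) = xg D F (actW D w r) ((etaWord D w r : F) * t) := by
  rw [map_mul, map_mul, map_inv, E.π_N hD hw, hg, hD.nw_conj_x hw hr]

theorem π_eq_zero_commute {r : ℕ} (hr : r < D.nroots) (hD : Good D) {v : Γ}
    (hv : E.π v = xg D F r 0) (w : Γ) : Commute v w := by
  refine E.commute_congr (v' := 1) (w' := w) ?_ rfl (Commute.one_left w)
  rw [hv, hD.xg_zero, map_one]

variable (hS : SLD D)
include hS

theorem bracket_transport {w : List ℕ} (hw : ∀ i ∈ w, i < D.rank) {r a b : ℕ} {z : ℤ}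
    (ha : a < D.nroots) (hb : b < D.nroots) (h : D.chainEntry b a = [(r, z)]) :
    ∃ z', D.chainEntry (actW D w b) (actW D w a) = [(actW D w r, z')] := by
  have hD := hS.good.toGood
  obtain ⟨hr, hz, -⟩ := hS.entry_single hb ha h
  obtain ⟨hne, hneg⟩ := hS.bracket_ne hb ha h
  have hb' := hD.actW_lt hw hb
  have ha' := hD.actW_lt hw ha
  have hinv : ∀ {x y : ℕ}, x < D.nroots → y < D.nroots → actW D w x = actW D w y → x = y :=
    fun hx hy e => by rw [← actW_reverse hD hw hx, e, actW_reverse hD hw hy]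
  have hne' : actW D w a ≠ actW D w b := fun e => hne (hinv ha hb e)
  have hneg' : actW D w a ≠ D.neg (actW D w b) := fun e =>
    hneg (hinv ha (hD.neg_lt hb) (by rw [e, hD.actW_neg hw hb]))
  have he : ∀ x, (etaWord D w x : ℚ) ≠ 0 := fun x h0 => by
    have := congrArg (Int.cast : ℤ → ℚ) (Good.etaWord_sq (D := D) w x)
    rw [Int.cast_mul, h0, zero_mul, Int.cast_one] at this
    exact zero_ne_one this
  have key : ⁅xg D ℚ (actW D w a) (etaWord D w a : ℚ), xg D ℚ (actW D w b) (etaWord D w b : ℚ)⁆ =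
      xg D ℚ (actW D w r) ((etaWord D w r : ℚ) * -(z : ℚ)) := by
    have h1 := congrArg (MulAut.conj (nw D ℚ w))
      (hS.xg_bracket hb ha hne hneg h (1 : ℚ) 1)
    rw [map_commutatorElement, MulAut.conj_apply, MulAut.conj_apply, MulAut.conj_apply,
      hD.nw_conj_x hw ha, hD.nw_conj_x hw hb, hD.nw_conj_x hw hr] at h1
    simpa using h1
  have hnz : (etaWord D w r : ℚ) * -(z : ℚ) ≠ 0 := mul_ne_zero (he r) (by
    intro h0
    have := congrArg (Int.cast : ℤ → ℚ) hz
    rw [Int.cast_mul, neg_eq_zero.1 h0, zero_mul, Int.cast_one] at this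
    exact zero_ne_one this)
  rcases hS.entry_cases hb' ha' with e | ⟨c, z', e, hc, -⟩
  · exfalso
    rw [commutatorElement_eq_one_iff_commute.2 (hS.xg_commute hb' ha' hneg' e _ _).symm,
      ← hD.xg_zero (F := ℚ) (actW D w r)] at key
    exact hnz (hD.xg_injective (hD.actW_lt hw hr) key).symm
  · rw [hS.xg_bracket hb' ha' hne' hneg' e] at key
    rw [← hS.xg_root_eq (hD.actW_lt hw hr) hc hnz key.symm] at e
    exact ⟨z', e⟩

/-- lifts of commuting root elements commute -/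
theorem lift_commute {r s : ℕ} (hr : r < D.nroots) (hs : s < D.nroots) (hn : s ≠ D.neg r)
    (h : D.chainEntry r s = []) {t u : F} {v w : Γ} (hv : E.π v = xg D F r t)
    (hw : E.π w = xg D F s u) : Commute v w := by
  have hD := hS.good.toGood
  obtain ⟨wd, hwd, i, hi, rfl⟩ := hD.exists_word hr
  have hp := hD.simple_lt hi
  have hwd' : ∀ j ∈ wd.reverse, j < D.rank := fun j hj => hwd j (List.mem_reverse.1 hj)
  set s' := actW D wd.reverse s with hs'def
  have hs' : s' < D.nroots := hD.actW_lt hwd' hs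
  set g := E.N wd.reverse
  have hv' := E.π_N_conj hD hwd' hr hv
  rw [actW_reverse hD hwd hp] at hv'
  have hw' := E.π_N_conj hD hwd' hs hw
  suffices hcom : Commute (g * v * g⁻¹) (g * w * g⁻¹) from
    (MulAut.conj g).injective (by simpa only [map_mul, MulAut.conj_apply] using hcom.eq)
  set t' := (etaWord D wd.reverse (actW D wd (D.simple i)) : F) * t
  set u' := (etaWord D wd.reverse s : F) * u
  rcases eq_or_ne t' 0 with h0 | ht0
  · exact E.π_eq_zero_commute hp hD (by rw [hv', h0]) _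
  rcases eq_or_ne u' 0 with h0 | hu0
  · exact (E.π_eq_zero_commute hs' hD (by rw [hw', h0]) _).symm
  have hsn : s' ≠ D.neg (D.simple i) := by
    intro e
    apply hn
    have := actW_reverse hD hwd' hs
    rw [List.reverse_reverse] at this
    rw [← this, ← hs'def, e, hD.actW_neg hwd hp]
  have himg : Commute (E.π (g * v * g⁻¹)) (E.π (g * w * g⁻¹)) := by
    have hb : Commute (E.π v) (E.π w) := by rw [hv, hw]; exact hS.xg_commute hr hs hn h t u
    simp only [map_mul, map_inv]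
    exact hb.map (MulAut.conj (E.π g)).toMonoidHom
  rcases hS.entry_cases hp hs' with e | ⟨c, z, e, hc, hz, -⟩
  · have hroot := hS.cert.root i hi
    simp only [chkRoot, chkWit, forceN_eq, Bool.and_eq_true, kallUpTo_iff] at hroot
    have hwit := hroot.1.1.1 s' hs'
    simp only [std_negf, std_look, e, nat_beq_false hsn, List.isEmpty_nil, Bool.not_true, Bool.false_or,
      kanyUpTo_iff, singleK_iff, Bool.and_eq_true, hit_iff, commOK, List.isEmpty_iff, Bool.not_eq_true',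
      Nat.blt_eq] at hwit
    obtain ⟨a, ha, hwit⟩ := hwit
    rcases hwit with ⟨-, hwit⟩ | ⟨b, _, -, ⟨⟨hb, z, hba⟩, hpa, hna⟩, hpb, hnb⟩
    · exact absurd hwit (by simp)
    have hna' : a ≠ D.neg (D.simple i) := fun e' => by rw [e', Nat.beq_refl] at hna; cases hna
    have hnb' : b ≠ D.neg (D.simple i) := fun e' => by rw [e', Nat.beq_refl] at hnb; cases hnb
    obtain ⟨h1, h2⟩ := hS.bracket_ne hb ha hba
    have hz : (z : F) * z = 1 := by
      rw [← Int.cast_mul, (hS.entry_single hb ha hba).2.1, Int.cast_one]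
    have hπ : E.π ⁅E.ℓ a (-((z : F) * u')), E.ℓ b 1⁆ = xg D F s' u' := by
      rw [map_commutatorElement, E.π_ℓ a ha, E.π_ℓ b hb, hS.xg_bracket hb ha h1 h2 hba]
      congr 1
      linear_combination u' * hz
    refine E.commute_congr (w' := ⁅E.ℓ a (-((z : F) * u')), E.ℓ b 1⁆) rfl (by rw [hw', hπ]) ?_
    set V := g * v * g⁻¹ with hV
    have e1 : V * ⁅E.ℓ a (-((z : F) * u')), E.ℓ b 1⁆ * V⁻¹ = ⁅E.ℓ a (-((z : F) * u')), E.ℓ b 1⁆ := by
      rw [← MulAut.conj_apply, map_commutatorElement, MulAut.conj_apply, MulAut.conj_apply]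
      refine E.comm_congr ?_ ?_
      · rw [map_mul, map_mul, map_inv, hv', E.π_ℓ a ha]
        exact mul_inv_eq_of_eq_mul (hS.xg_commute hp ha hna' hpa t' _).eq
      · rw [map_mul, map_mul, map_inv, hv', E.π_ℓ b hb]
        exact mul_inv_eq_of_eq_mul (hS.xg_commute hp hb hnb' hpb t' _).eq
    exact mul_inv_eq_iff_eq_mul.1 e1
  · exfalso
    obtain ⟨h1, -⟩ := hS.bracket_ne hp hs' e
    rw [hv', hw'] at himg
    have hbr := hS.xg_bracket hp hs' h1 hsn e t' u'
    rw [commutatorElement_eq_one_iff_commute.2 himg.symm, ← hD.xg_zero (F := F) c] at hbr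
    have hz' : (z : F) ≠ 0 := fun h0 => by
      have := congrArg (Int.cast : ℤ → F) hz
      rw [Int.cast_mul, h0, zero_mul, Int.cast_one] at this
      exact zero_ne_one this
    exact neg_ne_zero.2 (mul_ne_zero (mul_ne_zero hz' ht0) hu0) (hD.xg_injective hc hbr).symm

/-- the commutator of the chosen lifts -/
def f (a b : ℕ) (t u : F) : Γ := ⁅E.ℓ a t, E.ℓ b u⁆

theorem π_f {a b r : ℕ} {z : ℤ} (ha : a < D.nroots) (hb : b < D.nroots)
    (h : D.chainEntry b a = [(r, z)]) (t u : F) :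
    E.π (E.f a b t u) = xg D F r (-((z : F) * u * t)) := by
  obtain ⟨h1, h2⟩ := hS.bracket_ne hb ha h
  rw [f, map_commutatorElement, E.π_ℓ a ha, E.π_ℓ b hb, hS.xg_bracket hb ha h1 h2 h]

/-- the associativity step -/
theorem link {a b c a' c' : ℕ} {z1 z2 : ℤ} (ha : a < D.nroots) (hb : b < D.nroots)
    (hc : c < D.nroots) (h1 : D.chainEntry b a = [(a', z1)]) (h2 : D.chainEntry b c = [(c', z2)])
    (hac : D.chainEntry a c = []) (hacn : c ≠ D.neg a) (hac' : D.chainEntry a' c' = [])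
    (hacn' : c' ≠ D.neg a') :
    (∀ w X : F, E.f c a' w X = E.f a c' (-((z1 : F) * X)) (-((z2 : F) * w))) ∧
      ∀ w X : F, E.f c a' w X = E.f c a' (w * X) 1 := by
  obtain ⟨ha', hz1, -⟩ := hS.entry_single hb ha h1
  obtain ⟨hc', hz2, -⟩ := hS.entry_single hb hc h2
  have key : ∀ t v w : F, E.f c a' w (-((z1 : F) * v * t)) = E.f a c' t (-((z2 : F) * v * w)) := by
    intro t v w
    set A := E.ℓ a t
    set B := E.ℓ b v
    set C := E.ℓ c w
    have hZ : E.π ⁅A, B⁆ = E.π (E.ℓ a' (-((z1 : F) * v * t))) := by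
      rw [E.π_ℓ a' ha']; exact E.π_f hS ha hb h1 t v
    have hW : E.π ⁅C, B⁆ = E.π (E.ℓ c' (-((z2 : F) * v * w))) := by
      rw [E.π_ℓ c' hc']; exact E.π_f hS hc hb h2 w v
    have hAC : C * A * C⁻¹ = A :=
      mul_inv_eq_of_eq_mul (E.lift_commute hS ha hc hacn hac (E.π_ℓ a ha t) (E.π_ℓ c hc w)).eq.symm
    have hZW : ⁅C, B⁆ * ⁅A, B⁆ * ⁅C, B⁆⁻¹ = ⁅A, B⁆ :=
      mul_inv_eq_of_eq_mul (E.lift_commute hS ha' hc' hacn' hac'
        (hZ.trans (E.π_ℓ a' ha' _)) (hW.trans (E.π_ℓ c' hc' _))).eq.symm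
    calc E.f c a' w (-((z1 : F) * v * t)) = ⁅C, ⁅A, B⁆⁆ := E.comm_congr rfl hZ.symm
      _ = C * ⁅A, B⁆ * C⁻¹ * ⁅A, B⁆⁻¹ := commutatorElement_def _ _
      _ = ⁅C * A * C⁻¹, C * B * C⁻¹⁆ * ⁅A, B⁆⁻¹ := by
          simp only [commutatorElement_def]; group
      _ = ⁅A, ⁅C, B⁆ * B⁆ * ⁅A, B⁆⁻¹ := by
          rw [hAC]; simp only [commutatorElement_def]; group
      _ = ⁅A, ⁅C, B⁆⁆ * (⁅C, B⁆ * ⁅A, B⁆ * ⁅C, B⁆⁻¹) * ⁅A, B⁆⁻¹ := by
          simp only [commutatorElement_def]; group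
      _ = ⁅A, ⁅C, B⁆⁆ := by rw [hZW, mul_inv_cancel_right]
      _ = E.f a c' t (-((z2 : F) * v * w)) := E.comm_congr rfl hW
  have e1 : (z1 : F) * z1 = 1 := by rw [← Int.cast_mul, hz1, Int.cast_one]
  have first : ∀ w X : F, E.f c a' w X = E.f a c' (-((z1 : F) * X)) (-((z2 : F) * w)) := by
    intro w X
    have := key (-((z1 : F) * X)) 1 w
    rw [show -((z1 : F) * 1 * -((z1 : F) * X)) = X by linear_combination X * e1, mul_one] at this
    exact this
  refine ⟨first, fun w X => ?_⟩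
  have := key (-(z1 : F)) X w
  rw [show -((z1 : F) * X * -(z1 : F)) = X by linear_combination X * e1] at this
  rw [this, first (w * X) 1, mul_one]
  congr 1
  ring

/-- `(a, b)` is a decomposition of a root all of whose commutators are given by `φ` -/
def GoodDec (p : ℕ) (φ : F → Γ) (e : ℕ × ℕ) : Prop :=
  ∀ t u : F, ∀ z : ℤ, D.chainEntry e.2 e.1 = [(p, z)] →
    E.f e.1 e.2 t u = φ (-((z : F) * u * t))

omit hS in
theorem linkK_unfold {u v : ℕ × ℕ} (h : linkK (std D) D u v = true) :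
    ∃ b < D.nroots, (∃ z, D.chainEntry b u.1 = [(v.2, z)]) ∧ (∃ z, D.chainEntry b v.1 = [(u.2, z)]) ∧
      D.chainEntry u.1 v.1 = [] ∧ v.1 ≠ D.neg u.1 ∧ D.chainEntry v.2 u.2 = [] ∧ u.2 ≠ D.neg v.2 := by
  simp only [linkK, singleK_iff, forceN_eq, Bool.and_eq_true, Nat.blt_eq, hit_iff, commOK,
    std_look, std_negf, List.isEmpty_iff, Bool.not_eq_true'] at h
  rcases h with ⟨-, h⟩ | ⟨b, -, -, ⟨⟨⟨hb, h1⟩, h2⟩, h3, h4⟩, h5, h6⟩
  · exact absurd h (by simp)
  · refine ⟨b, hb, h1, h2, h3, fun e => ?_, h5, fun e => ?_⟩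
    · rw [e, Nat.beq_refl] at h4; cases h4
    · rw [e, Nat.beq_refl] at h6; cases h6

theorem decsK_mem {p : ℕ} (hp : p < D.nroots) {a b : ℕ} (ha : a < D.nroots) (hb : b < D.nroots)
    {z : ℤ} (h : D.chainEntry b a = [(p, z)]) : (a, b) ∈ decsK (std D) D p := by
  obtain ⟨-, -, -, -, ⟨z', hz'⟩, -⟩ := hS.entry_single hb ha h
  simp only [decsK, kbind_eq, ktab_eq, List.mem_flatMap, std_look, std_negf]
  refine ⟨a, by simpa using ha, ?_⟩
  rw [hz']
  simp

omit hS in
theorem decsK_lt {p : ℕ} {e : ℕ × ℕ} (he : e ∈ decsK (std D) D p) : e.1 < D.nroots := by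
  simp only [decsK, kbind_eq, ktab_eq, List.mem_flatMap, List.mem_map, List.mem_range,
    id_eq, std_look, std_negf] at he
  obtain ⟨a, ⟨a', ha', rfl⟩, hm⟩ := he
  rcases hl : D.chainEntry (D.neg a') p with _ | ⟨x, L⟩
  · rw [hl] at hm; simp at hm
  · rw [hl] at hm; simp at hm
    rw [hm]; exact ha'

/-- the properties of one canonical family at a simple root -/
theorem exists_simple {i : ℕ} (hi : i < D.rank) :
    ∃ φ : F → Γ, (∀ v, E.π (φ v) = xg D F (D.simple i) v) ∧ (∀ v w, φ (v + w) = φ v * φ w) ∧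
      (∀ a b z, a < D.nroots → b < D.nroots → D.chainEntry b a = [(D.simple i, z)] →
        ∀ t u, E.f a b t u = φ (-((z : F) * u * t))) ∧
      ∃ a b z, a < D.nroots ∧ b < D.nroots ∧ D.chainEntry b a = [(D.simple i, z)] := by
  have hD := hS.good.toGood
  set p := D.simple i
  have hp : p < D.nroots := hD.simple_lt hi
  have hroot := hS.cert.root i hi
  simp only [chkRoot, chkConn, forceN_eq, forceD_eq, Bool.and_eq_true, kall_iff] at hroot
  obtain ⟨⟨⟨-, hmem, hrec⟩, -⟩, -⟩ := hroot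
  rcases hL : decsK (std D) D p with _ | ⟨e0, T⟩
  · rw [hL] at hrec; simp at hrec
  rw [hL] at hrec hmem
  simp only [Bool.and_eq_true, kany_iff] at hrec
  obtain ⟨⟨v0, hv0, hlink0⟩, hreach⟩ := hrec
  have hfacts : ∀ e ∈ e0 :: T, e.1 < D.nroots ∧ e.2 < D.nroots ∧
      (∃ z, D.chainEntry e.2 e.1 = [(p, z)] ∧ z * z = 1) ∧
      D.chainEntry e.1 p = [] ∧ p ≠ D.neg e.1 := by
    intro e he
    have h := hmem e he
    simp only [hit_iff, commOK, std_look, std_negf, Bool.and_eq_true, List.isEmpty_iff,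
      Bool.not_eq_true'] at h
    obtain ⟨⟨z, hz⟩, hap, hnp⟩ := h
    have h1 := decsK_lt (hL ▸ he)
    have h2 : e.2 < D.nroots := by
      by_contra h2
      simp only [decsK, kbind_eq, ktab_eq] at hL
      have := hL ▸ he
      simp only [List.mem_flatMap, List.mem_map, List.mem_range, id_eq, std_look, std_negf] at this
      obtain ⟨a, ⟨a', ha', rfl⟩, hm⟩ := this
      rcases hS.entry_cases (hD.neg_lt ha') hp with h' | ⟨c, w, h', hc, -⟩
      · rw [h'] at hm; simp at hm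
      · rw [h'] at hm; simp at hm
        subst hm
        exact h2 hc
    refine ⟨h1, h2, ⟨z, hz, (hS.entry_single h2 h1 hz).2.1⟩, hap, fun e' => ?_⟩
    have e'' : D.simple i = D.neg e.1 := e'
    rw [e'', Nat.beq_refl] at hnp; cases hnp
  obtain ⟨ha0, hb0, ⟨z0, hz0, hzz0⟩, hap0, hnap0⟩ := hfacts e0 (by simp)
  have hzF : (z0 : F) * z0 = 1 := by rw [← Int.cast_mul, hzz0, Int.cast_one]
  set φ : F → Γ := fun v => E.f e0.1 e0.2 (-((z0 : F) * v)) 1
  have hπφ : ∀ v, E.π (φ v) = xg D F p v := fun v => by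
    show E.π (E.f _ _ _ _) = _
    rw [E.π_f hS ha0 hb0 hz0]
    congr 1
    linear_combination v * hzF
  have hadd : ∀ v w, φ (v + w) = φ v * φ w := by
    intro v w
    show E.f _ _ _ _ = _
    rw [show -((z0 : F) * (v + w)) = -((z0 : F) * w) + -((z0 : F) * v) by ring]
    have e1 : E.f e0.1 e0.2 (-((z0 : F) * w) + -((z0 : F) * v)) 1 =
        ⁅E.ℓ e0.1 (-((z0 : F) * w)) * E.ℓ e0.1 (-((z0 : F) * v)), E.ℓ e0.2 1⁆ :=
      E.comm_congr (by rw [map_mul, E.π_ℓ _ ha0, E.π_ℓ _ ha0, E.π_ℓ _ ha0, hD.xg_add]) rfl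
    rw [e1, show ⁅E.ℓ e0.1 (-((z0 : F) * w)) * E.ℓ e0.1 (-((z0 : F) * v)), E.ℓ e0.2 1⁆ =
      E.ℓ e0.1 (-((z0 : F) * w)) * φ v * (E.ℓ e0.1 (-((z0 : F) * w)))⁻¹ * φ w by
        simp only [φ, f, commutatorElement_def]; group,
      (E.lift_commute hS ha0 hp hnap0 hap0 (E.π_ℓ _ ha0 _) (hπφ v)).eq, mul_inv_cancel_right]
  -- the base decomposition
  have hbase : E.GoodDec p φ e0 := by
    intro t u z hz
    obtain rfl : z = z0 := by rw [hz0] at hz; simpa using hz.symm
    obtain ⟨b, hb, ⟨z1, h1⟩, ⟨z2, h2⟩, h3, h4, h5, h6⟩ := linkK_unfold hlink0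
    have hv := (hfacts v0 (List.mem_cons_of_mem _ hv0)).1
    show _ = E.f _ _ _ _
    rw [(E.link hS hv hb ha0 h1 h2 h3 h4 h5 h6).2 t u]
    congr 1
    linear_combination -(u * t) * hzF
  have hstep : ∀ e ∈ e0 :: T, ∀ e' ∈ e0 :: T, E.GoodDec p φ e →
      linkK (std D) D e e' = true → E.GoodDec p φ e' := by
    intro e he e' he' hg hl t u z hz
    obtain ⟨b, hb, ⟨z1, h1⟩, ⟨z2, h2⟩, h3, h4, h5, h6⟩ := linkK_unfold hl
    obtain ⟨hea, heb, ⟨ze, hze, -⟩, -⟩ := hfacts e he
    obtain ⟨hea', heb', -⟩ := hfacts e' he'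
    have h7 := (E.link hS hea hb hea' h1 h2 h3 h4 h5 h6).1 t u
    rw [h7, hg _ _ ze hze]
    have h8 := congrArg E.π h7
    rw [hg _ _ ze hze, hπφ, E.π_f hS hea' heb' hz] at h8
    rw [← hD.xg_injective hp h8]
  have hall : ∀ (k : ℕ) (R U : List (ℕ × ℕ)), reachK (std D) D k R U = true →
      (∀ e ∈ R, e ∈ e0 :: T ∧ E.GoodDec p φ e) → (∀ e ∈ U, e ∈ e0 :: T) →
        ∀ e ∈ U, E.GoodDec p φ e := by
    intro k
    induction k with
    | zero =>
      intro R U hr _ _ e he
      change U.isEmpty = true at hr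
      rw [List.isEmpty_iff] at hr
      simp [hr] at he
    | succ k ih =>
      intro R U hr hR hU e he
      change (U.isEmpty || forceD (keepK (fun v => kany R fun u => linkK (std D) D u v) U) fun N =>
        forceD (keepK (fun v => !(kany R fun u => linkK (std D) D u v)) U) fun T' =>
          reachK (std D) D k (kapp N R) T') = true at hr
      simp only [Bool.or_eq_true, List.isEmpty_iff, forceD_eq] at hr
      rcases hr with hr | hr
      · simp [hr] at he
      set N := keepK (fun v => kany R fun u => linkK (std D) D u v) U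
      have hN : ∀ x ∈ N, x ∈ e0 :: T ∧ E.GoodDec p φ x := by
        intro x hx
        simp only [N, keepK_eq, List.mem_filter, kany_iff] at hx
        obtain ⟨hxU, u', hu', hl⟩ := hx
        exact ⟨hU x hxU, hstep u' (hR u' hu').1 x (hU x hxU) (hR u' hu').2 hl⟩
      by_cases hx : kany R (fun u => linkK (std D) D u e) = true
      · exact (hN e (by simp [N, keepK_eq, he, hx])).2
      · refine ih (kapp N R) _ hr (fun x hxm => ?_) (fun x hxm => ?_) e ?_
        · rw [kapp_eq, List.mem_append] at hxm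
          exact hxm.elim (hN x) (hR x)
        · rw [keepK_eq, List.mem_filter] at hxm
          exact hU x hxm.1
        · simp [keepK_eq, he, hx]
  have hTgood := hall D.nroots [e0] T hreach (fun e he => by
    rw [List.mem_singleton] at he; subst he; exact ⟨by simp, hbase⟩) fun e he => by simp [he]
  refine ⟨φ, hπφ, hadd, fun a b z ha hb hab t u => ?_, e0.1, e0.2, z0, ha0, hb0, hz0⟩
  have hm := decsK_mem hS hp ha hb hab
  rw [hL, List.mem_cons] at hm
  rcases hm with hm | hm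
  · exact (hm ▸ hbase : E.GoodDec p φ (a, b)) t u z hab
  · exact hTgood _ hm t u z hab

/-- `g` is a commutator of lifts of two root elements whose roots add up to `r` -/
def IsCan (r : ℕ) (g : Γ) : Prop :=
  ∃ a b, a < D.nroots ∧ b < D.nroots ∧ (∃ z, D.chainEntry b a = [(r, z)]) ∧
    ∃ t u, g = E.f a b t u

theorem isCan_conj {w : List ℕ} (hw : ∀ i ∈ w, i < D.rank) {r : ℕ} {g : Γ} (hg : E.IsCan r g) :
    E.IsCan (actW D w r) (E.N w * g * (E.N w)⁻¹) := by
  have hD := hS.good.toGood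
  obtain ⟨a, b, ha, hb, ⟨z, hz⟩, t, u, rfl⟩ := hg
  refine ⟨_, _, hD.actW_lt hw ha, hD.actW_lt hw hb, bracket_transport hS hw ha hb hz,
    (etaWord D w a : F) * t, (etaWord D w b : F) * u, ?_⟩
  rw [f, f, ← MulAut.conj_apply, map_commutatorElement, MulAut.conj_apply, MulAut.conj_apply]
  exact E.comm_congr (by rw [E.π_N_conj hD hw ha (E.π_ℓ a ha t), E.π_ℓ _ (hD.actW_lt hw ha)])
    (by rw [E.π_N_conj hD hw hb (E.π_ℓ b hb u), E.π_ℓ _ (hD.actW_lt hw hb)])

theorem isCan_unique {r : ℕ} (hr : r < D.nroots) {g g' : Γ} (hg : E.IsCan r g)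
    (hg' : E.IsCan r g') (h : E.π g = E.π g') : g = g' := by
  have hD := hS.good.toGood
  obtain ⟨w, hw, i, hi, rfl⟩ := hD.exists_word hr
  have hw' : ∀ j ∈ w.reverse, j < D.rank := fun j hj => hw j (List.mem_reverse.1 hj)
  obtain ⟨φ, hπ, -, hφ, -⟩ := E.exists_simple hS hi
  have key : ∀ x, E.IsCan (D.simple i) x → ∃ v, x = φ v := by
    rintro x ⟨a, b, ha, hb, ⟨z, hz⟩, t, u, rfl⟩
    exact ⟨_, hφ a b z ha hb hz t u⟩
  have h1 := E.isCan_conj hS hw' hg
  have h2 := E.isCan_conj hS hw' hg'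
  rw [actW_reverse hD hw (hD.simple_lt hi)] at h1 h2
  obtain ⟨v, hv⟩ := key _ h1
  obtain ⟨v', hv'⟩ := key _ h2
  have h3 : E.π (φ v) = E.π (φ v') := by
    rw [← hv, ← hv', map_mul, map_mul, map_mul, map_mul, h]
  rw [hπ, hπ] at h3
  obtain rfl := hD.xg_injective (hD.simple_lt hi) h3
  exact (MulAut.conj (E.N w.reverse)).injective (hv.trans hv'.symm)

theorem exists_isCan {r : ℕ} (hr : r < D.nroots) :
    ∃ φ : F → Γ, (∀ v, E.IsCan r (φ v) ∧ E.π (φ v) = xg D F r v) ∧
      ∀ v w, φ (v + w) = φ v * φ w := by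
  have hD := hS.good.toGood
  obtain ⟨w, hw, i, hi, rfl⟩ := hD.exists_word hr
  obtain ⟨φ, hπ, hadd, hφ, a, b, z, ha, hb, hz⟩ := E.exists_simple hS hi
  have hzF : (z : F) * z = 1 := by
    rw [← Int.cast_mul, (hS.entry_single hb ha hz).2.1, Int.cast_one]
  set e : F := (etaWord D w (D.simple i) : F)
  have he : e * e = 1 := by
    show ((etaWord D w (D.simple i) : ℤ) : F) * _ = 1
    rw [← Int.cast_mul, Good.etaWord_sq, Int.cast_one]
  refine ⟨fun v => E.N w * φ (e * v) * (E.N w)⁻¹, fun v => ⟨E.isCan_conj hS hw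
    ⟨a, b, ha, hb, ⟨z, hz⟩, -((z : F) * (e * v)), 1, ?_⟩, ?_⟩, fun v v' => ?_⟩
  · rw [hφ a b z ha hb hz]
    congr 1
    linear_combination -(e * v) * hzF
  · rw [E.π_N_conj hD hw (hD.simple_lt hi) (hπ _)]
    congr 1
    linear_combination v * he
  · simp only [mul_add, hadd]
    exact conj_mul.symm

/-- The canonical lift of a root element. -/
noncomputable def can (r : ℕ) (v : F) : Γ :=
  if h : r < D.nroots then (E.exists_isCan hS h).choose v else 1

theorem can_spec {r : ℕ} (hr : r < D.nroots) (v : F) :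
    E.IsCan r (E.can hS r v) ∧ E.π (E.can hS r v) = xg D F r v := by
  rw [can, dif_pos hr]
  exact (E.exists_isCan hS hr).choose_spec.1 v

/-- Canonical lifts satisfy Steinberg's relations. -/
noncomputable def relSys : RelSys D F Γ where
  π := E.π
  y := E.can hS
  π_y r hr v := (E.can_spec hS hr v).2
  y_add r hr t u := by
    rw [can, can, can, dif_pos hr, dif_pos hr, dif_pos hr]
    exact (E.exists_isCan hS hr).choose_spec.2 t u
  comm0 r s hr hs hn h t u :=
    E.lift_commute hS hr hs hn h (E.can_spec hS hr t).2 (E.can_spec hS hs u).2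
  brk r s c z hr hs h t u := by
    have hc := (hS.entry_single hr hs h).1
    have hrs := hS.bracket_ne hr hs h
    refine E.isCan_unique hS hc ⟨s, r, hs, hr, ⟨z, h⟩, u, t, ?_⟩ (E.can_spec hS hc _).1 ?_
    · exact E.comm_congr (by rw [(E.can_spec hS hs u).2, E.π_ℓ s hs])
        (by rw [(E.can_spec hS hr t).2, E.π_ℓ r hr])
    · rw [map_commutatorElement, (E.can_spec hS hs u).2, (E.can_spec hS hr t).2,
        (E.can_spec hS hc _).2, hS.xg_bracket hr hs hrs.1 hrs.2 h]

end CExt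

end Cfsg.Agent.KnownSimple.Steinberg
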