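import Cfsg.Agent.KnownSimple.Steinberg.Bound
import Cfsg.Prelude.Def_SteinbergCover
import Cfsg.Prelude.Def_Steinberg

/-!
The presented Steinberg groups of a simply laced datum satisfy the relations (R1), (R2) (helper53).
-/

set_option autoImplicit false

namespace Cfsg.Agent.KnownSimple.Steinberg

open Cfsg Cfsg.Lie Cfsg.Agent.ChevCore Cfsg.Agent.ChevGroup
open scoped commutatorElement

variable {D : ChevalleyDatum} {F : Type*} [Field F]

/-- A group generated by images of the symbols in which the relators (R1), (R2) hold, over the matrix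
group. -/
structure StData (D : ChevalleyDatum) (F : Type*) [Field F] (Γ : Type*) [Group Γ] where
  φ : FreeGroup (Fin D.nroots × F) →* Γ
  surj : Function.Surjective φ
  rels : ∀ g ∈ D.steinbergRelsAB F, φ g = 1
  π : Γ →* GL D.Idx F
  π_of : ∀ (r : Fin D.nroots) (t : F), π (φ (FreeGroup.of (r, t))) = xg D F r.val t

namespace StData

variable {Γ : Type*} [Group Γ] (S : StData D F Γ)

/-- the image of the symbol of `r` and `t` -/
def gen (r : ℕ) (t : F) : Γ := S.φ (D.stX r t)

theorem π_gen {r : ℕ} (hr : r < D.nroots) (t : F) : S.π (S.gen r t) = xg D F r t := by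
  rw [gen, ChevalleyDatum.stX, dif_pos hr, S.π_of]

theorem gen_add {r : ℕ} (hr : r < D.nroots) (t u : F) :
    S.gen r (t + u) = S.gen r t * S.gen r u := by
  have h := S.rels (D.stX r t * D.stX r u * (D.stX r (t + u))⁻¹) (Or.inl ⟨r, t, u, hr, rfl⟩)
  rw [map_mul, map_mul, map_inv, mul_inv_eq_one] at h
  exact h.symm

theorem gen_neg {r : ℕ} (hr : r < D.nroots) (t : F) : S.gen r (-t) = (S.gen r t)⁻¹ := by
  have h0 : S.gen r (0 : F) = 1 := by
    have h := S.gen_add hr 0 0
    rw [add_zero] at h
    exact left_eq_mul.1 h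
  apply eq_inv_of_mul_eq_one_left
  rw [← S.gen_add hr, neg_add_cancel, h0]

theorem gen_comm {r s : ℕ} (hr : r < D.nroots) (hs : s < D.nroots) (h1 : s ≠ r)
    (h2 : s ≠ D.neg r) (t u : F) : ⁅S.gen s u, S.gen r t⁆ =
      ((D.commWord F r s (-t) (-u)).map fun p => S.gen p.1 p.2).prod := by
  have h := S.rels _ (Or.inr ⟨r, s, -t, -u, hr, hs, h1, h2, rfl⟩)
  rw [map_mul, mul_eq_one_iff_eq_inv, map_inv, inv_inv, map_mul, map_mul, map_mul, map_inv,
    map_inv] at h
  change (S.gen s (-u))⁻¹ * (S.gen r (-t))⁻¹ * S.gen s (-u) * S.gen r (-t) = _ at h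
  rw [S.gen_neg hr, S.gen_neg hs, inv_inv, inv_inv, ChevalleyDatum.stWord, map_list_prod,
    List.map_map] at h
  rw [commutatorElement_def, h]
  rfl

/-- The relations (R1), (R2). -/
def relSys (hS : SLD D) : RelSys D F Γ where
  π := S.π
  y := S.gen
  π_y _ hr t := S.π_gen hr t
  y_add _ hr t u := S.gen_add hr t u
  comm0 r s hr hs hn h t u := by
    by_cases h1 : s = r
    · subst h1
      rw [Commute, SemiconjBy, ← S.gen_add hr, ← S.gen_add hr, add_comm]
    · have e := S.gen_comm hr hs h1 hn t u
      rw [hS.commWord_eq hr hs, h, List.map_nil, List.map_nil, List.prod_nil,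
        commutatorElement_eq_one_iff_commute] at e
      exact e.symm
  brk r s c z hr hs h t u := by
    obtain ⟨h1, h2, -⟩ := hS.good.toGood.chain_facts hr hs (by simp [h])
    rw [S.gen_comm hr hs h1 h2, hS.commWord_eq hr hs, h]
    simp only [List.map_cons, List.map_nil, List.prod_cons, List.prod_nil, mul_one]
    congr 1
    ring

theorem closure_gen (hS : SLD D) :
    Subgroup.closure {g | ∃ r t, r < D.nroots ∧ g = (S.relSys hS).y r t} = ⊤ := by
  rw [eq_top_iff]
  rintro g -
  obtain ⟨w, rfl⟩ := S.surj g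
  induction w using FreeGroup.induction_on with
  | C1 => simp
  | of p =>
    refine Subgroup.subset_closure ⟨p.1.val, p.2, p.1.isLt, ?_⟩
    show S.φ (FreeGroup.of p) = S.φ (D.stX p.1.val p.2)
    rw [ChevalleyDatum.stX, dif_pos p.1.isLt]
  | inv_of p hp => rw [map_inv]; exact inv_mem hp
  | mul x y hx hy => rw [map_mul]; exact mul_mem hx hy

end StData

theorem lift_stX (r : ℕ) (hr : r < D.nroots) (t : F) :
    FreeGroup.lift (fun p : Fin D.nroots × F => xg D F p.1.val p.2) (D.stX r t) = xg D F r t := by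
  rw [ChevalleyDatum.stX, dif_pos hr, FreeGroup.lift_apply_of]

theorem lift_relsAB (hS : SLD D) {g : FreeGroup (Fin D.nroots × F)} (hg : g ∈ D.steinbergRelsAB F) :
    FreeGroup.lift (fun p : Fin D.nroots × F => xg D F p.1.val p.2) g = 1 := by
  have hD := hS.good.toGood
  rcases hg with ⟨r, t, u, hr, rfl⟩ | ⟨r, s, t, u, hr, hs, h1, h2, rfl⟩
  · rw [map_mul, map_mul, map_inv, lift_stX r hr, lift_stX r hr, lift_stX r hr, hD.xg_add,
      mul_inv_cancel]
  · simp only [map_mul, map_inv, lift_stX r hr, lift_stX s hs]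
    rw [mul_inv_eq_one, mul_assoc _ (xg D F s u) (xg D F r t), hS.good.xg_comm hr hs h1 h2,
      mul_assoc (xg D F r t), mul_assoc, inv_mul_cancel_left, inv_mul_cancel_left,
      ChevalleyDatum.stWord, map_list_prod, List.map_map, wordG]
    refine congrArg List.prod (List.map_congr_left fun p hp => ?_)
    rw [hS.commWord_eq hr hs] at hp
    obtain ⟨e, he, rfl⟩ := List.mem_map.1 hp
    rcases hS.entry_cases hr hs with e' | ⟨c, z, e', hc, -⟩
    · rw [e'] at he; cases he
    · rw [e', List.mem_singleton] at he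
      subst he
      exact (lift_stX c hc _).symm

theorem lift_stH (hD : Good D) {r : ℕ} (hr : r < D.nroots) (t : F) :
    FreeGroup.lift (fun p : Fin D.nroots × F => xg D F p.1.val p.2) (D.stH r t) = hg D F r t := by
  simp only [ChevalleyDatum.stH, ChevalleyDatum.stWord, ChevalleyDatum.hWord,
    ChevalleyDatum.nWord, List.map_append, List.map_cons, List.map_nil, List.prod_append,
    List.prod_cons, List.prod_nil, mul_one, map_mul, lift_stX r hr, lift_stX _ (hD.neg_lt hr),
    hg, ng, mul_assoc]

theorem lift_rels (hS : SLD D) {g : FreeGroup (Fin D.nroots × F)} (hg' : g ∈ D.steinbergRels F) :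
    FreeGroup.lift (fun p : Fin D.nroots × F => xg D F p.1.val p.2) g = 1 := by
  rcases hg' with h | ⟨r, a, b, hr, ha, hb, rfl⟩
  · exact lift_relsAB hS h
  · have hD := hS.good.toGood
    rw [map_mul, map_mul, map_inv, lift_stH hD hr, lift_stH hD hr, lift_stH hD hr,
      hD.hg_mul hr ha hb, mul_inv_cancel]

/-- Steinberg's presented group. -/
noncomputable def stData (hS : SLD D) : StData D F (D.SteinbergGroup F) where
  φ := PresentedGroup.mk (D.steinbergRels F)
  surj := PresentedGroup.mk_surjective _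
  rels g hg := PresentedGroup.one_of_mem (Or.inl hg)
  π := PresentedGroup.toGroup (f := fun p : Fin D.nroots × F => xg D F p.1.val p.2)
    fun _ h => lift_rels hS h
  π_of _ _ := PresentedGroup.toGroup.of _

/-- The group presented by (R1), (R2). -/
noncomputable def scData (hS : SLD D) : StData D F (D.SteinbergCover F) where
  φ := PresentedGroup.mk (D.steinbergRelsAB F)
  surj := PresentedGroup.mk_surjective _
  rels g hg := PresentedGroup.one_of_mem hg
  π := PresentedGroup.toGroup (f := fun p : Fin D.nroots × F => xg D F p.1.val p.2)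
    fun _ h => lift_relsAB hS h
  π_of _ _ := PresentedGroup.toGroup.of _

theorem stData_gen (hS : SLD D) (r : ℕ) (t : F) : (stData hS).gen r t = D.stGen F r t := rfl

theorem scData_gen (hS : SLD D) (r : ℕ) (t : F) : (scData hS).gen r t = D.scGen F r t := rfl

end Cfsg.Agent.KnownSimple.Steinberg
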