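import Cfsg.Agent.KnownSimple.Steinberg.Lower
import Cfsg.Agent.KnownSimple.Steinberg.EmbE7E8
import Cfsg.Agent.KnownSimple.Steinberg.SLE7
import Cfsg.Agent.KnownSimple.Steinberg.SLE8

/-!
The Schur multiplier of the Chevalley groups of type E7 (helper53).
-/

set_option autoImplicit false

namespace Cfsg.Agent.KnownSimple.Steinberg

open Cfsg Cfsg.Lie Cfsg.Agent.ChevCore Cfsg.Agent.ChevGroup

theorem centreE7 : centreB chevE7 chevE8 (iotaK packE7E8) 2 [0, 1, 0, 0, 1, 0, 1] 1 = true := by decide +kernel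

theorem multiplierE7 {F : Type*} [Field F] [Fintype F] :
    HasCyclicSchurMultiplier ↥(chevE7.group F) (Nat.gcd 2 (Fintype.card F - 1)) :=
  hasCyclicSchurMultiplier_of_emb sldE7 TypeE7.model sldE8 embE7E8 elimE7 (by norm_num) centreE7

end Cfsg.Agent.KnownSimple.Steinberg
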