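import Cfsg.Agent.KnownSimple.Steinberg.Lifts
import Cfsg.Agent.ChevGroup.Mat.Chain

/-!
Consequences of Steinberg's relations (R1), (R2) of a simply laced datum: the root relations of the Bruhat
engine, and the kernel over the matrix group lies in the torus and is central (helper53).
-/

set_option autoImplicit false

namespace Cfsg.Agent.KnownSimple.Steinberg

open Cfsg.Lie Cfsg.Agent.ChevCore Cfsg.Agent.ChevGroup
open scoped commutatorElement

variable {D : ChevalleyDatum} {F : Type*} [Field F]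

theorem eta_ne_zero (i s : ℕ) : (eta D i s : F) ≠ 0 := by
  rcases eta_eq_one_or D i s with h | h <;> simp [h]

theorem etaWord_mul_self (w : List ℕ) (r : ℕ) : (etaWord D w r : F) * (etaWord D w r : F) = 1 := by
  rw [← Int.cast_mul, Good.etaWord_sq, Int.cast_one]

namespace SLD

variable (hS : SLD D)
include hS

theorem intCast_mul_self {r s c : ℕ} {z : ℤ} (hr : r < D.nroots) (hs : s < D.nroots)
    (h : D.chainEntry r s = [(c, z)]) : (z : F) * z = 1 := by
  rw [← Int.cast_mul, (hS.entry_single hr hs h).2.1, Int.cast_one]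

theorem exists_dec {i : ℕ} (hi : i < D.rank) : ∃ a b z, a < D.nroots ∧ b < D.nroots ∧
    D.chainEntry b a = [(D.simple i, z)] ∧ a ≠ D.simple i ∧ a ≠ D.neg (D.simple i) ∧
      b ≠ D.simple i ∧ b ≠ D.neg (D.simple i) := by
  have hD := hS.good.toGood
  have hp := hD.simple_lt hi
  have hroot := hS.cert.root i hi
  simp only [chkRoot, chkConn, forceN_eq, forceD_eq, Bool.and_eq_true, kall_iff] at hroot
  obtain ⟨⟨⟨-, hmem, hrec⟩, -⟩, -⟩ := hroot
  rcases hL : decsK (std D) D (D.simple i) with _ | ⟨⟨a, b⟩, T⟩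
  · rw [hL] at hrec; simp at hrec
  have hab : (a, b) ∈ decsK (std D) D (D.simple i) := hL ▸ List.mem_cons_self ..
  have ha := CExt.decsK_lt hab
  have h := hmem _ hab
  simp only [hit_iff, std_look] at h
  obtain ⟨⟨z, hz⟩, -⟩ := h
  have hb : b < D.nroots := by
    simp only [decsK, kbind_eq, ktab_eq, List.mem_flatMap, List.mem_map, List.mem_range, id_eq,
      std_look, std_negf] at hab
    obtain ⟨a', ⟨a'', ha', rfl⟩, hm⟩ := hab
    rcases hS.entry_cases (hD.neg_lt ha') hp with h' | ⟨c, w, h', hc, -⟩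
    · rw [h'] at hm; simp at hm
    · rw [h'] at hm; simp at hm
      rw [hm.2]; exact hc
  have key : ∀ {x y : ℕ}, x < D.nroots → y < D.nroots →
      (∃ z, D.chainEntry y x = [(D.simple i, z)]) → x ≠ D.simple i ∧ x ≠ D.neg (D.simple i) ∧
        ∃ z, D.chainEntry x y = [(D.simple i, z)] := by
    rintro x y hx hy ⟨z', hz'⟩
    obtain ⟨-, -, -, -, ⟨z'', h1⟩, h2⟩ := hS.entry_single hy hx hz'
    obtain ⟨h3, h4⟩ := hS.bracket_ne (hD.neg_lt hx) hp h1
    rw [hD.neg_neg hx] at h4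
    exact ⟨h4.symm, fun e => h3 (by rw [e, hD.neg_neg hp]), h2⟩
  obtain ⟨h1, h2, h3⟩ := key ha hb ⟨z, hz⟩
  obtain ⟨h4, h5, -⟩ := key hb ha h3
  exact ⟨a, b, z, ha, hb, hz, h1, h2, h4, h5⟩

theorem refl_ne {i s : ℕ} (hi : i < D.rank) (hs : s < D.nroots) (h1 : s ≠ D.simple i)
    (h2 : s ≠ D.neg (D.simple i)) :
    D.reflectRoot i s ≠ D.simple i ∧ D.reflectRoot i s ≠ D.neg (D.simple i) := by
  have hD := hS.good.toGood
  refine ⟨fun e => h2 ?_, fun e => h1 ?_⟩
  · rw [← hD.refl_refl hi hs, e, hD.refl_simple hi]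
  · rw [← hD.refl_refl hi hs, e, hD.refl_neg_simple hi]

theorem tri_facts {i s : ℕ} (hi : i < D.rank) (hs : s < D.nroots) (h1 : s ≠ D.simple i)
    (h2 : s ≠ D.neg (D.simple i)) :
    (D.reflectRoot i s ≠ s → D.chainEntry s (D.reflectRoot i s) = [] ∧
      D.reflectRoot i s ≠ D.neg s) ∧
    ∀ q x o, q = D.simple i ∨ q = D.neg (D.simple i) →
      (x = s ∧ o = D.reflectRoot i s) ∨ (x = D.reflectRoot i s ∧ o = s) →
      D.chainEntry q x = [] ∨ ∃ z, D.chainEntry q x = [(o, z)] := by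
  have hroot := hS.cert.root i hi
  simp only [chkRoot, chkTri, forceN_eq, Bool.and_eq_true, kallUpTo_iff] at hroot
  have h := hroot.1.2 s hs
  simp only [std_negf, std_look, nat_beq_false h1, nat_beq_false h2, Bool.false_or, reflW_std,
    Bool.and_eq_true, kall_iff, Bool.or_eq_true, List.isEmpty_iff, hit_iff, commOK,
    Bool.not_eq_true'] at h
  obtain ⟨hd, hq⟩ := h
  refine ⟨fun hne => ?_, ?_⟩
  · rcases hd with hd | ⟨h3, h4⟩
    · exact absurd (Nat.eq_of_beq_eq_true hd) hne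
    · exact ⟨h3, fun e => by rw [e, Nat.beq_refl] at h4; cases h4⟩
  · rintro q x o hqq hxo
    refine hq (q, (x, o)) ?_
    rcases hqq with rfl | rfl <;> rcases hxo with ⟨rfl, rfl⟩ | ⟨rfl, rfl⟩ <;> simp

theorem exists_nbr {i : ℕ} (hi : i < D.rank) : ∃ j < D.rank, D.cartan j (D.simple i) = -1 := by
  have hroot := hS.cert.root i hi
  simp only [chkRoot, chkNbr, forceN_eq, Bool.and_eq_true, kanyUpTo_iff, zEq_iff, std_cart] at hroot
  exact hroot.2

theorem pairing_neg {r s : ℕ} (hs : s < D.nroots) :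
    D.pairing r (D.neg s) = - D.pairing r s := by
  rw [pairing_eq, pairing_eq, ← Finset.sum_neg_distrib]
  refine Finset.sum_congr rfl fun k hk => ?_
  rw [hS.good.toGood.cartan_neg hs (Finset.mem_range.1 hk), mul_neg]

theorem ng_conj_self {i : ℕ} (hi : i < D.rank) {v : F} (hv : v ≠ 0) (a : F) :
    ng D F (D.simple i) v * xg D F (D.simple i) a * (ng D F (D.simple i) v)⁻¹ =
        xg D F (D.neg (D.simple i)) (-(a / v ^ 2)) ∧
      ng D F (D.simple i) v * xg D F (D.neg (D.simple i)) a * (ng D F (D.simple i) v)⁻¹ =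
        xg D F (D.simple i) (-(v ^ 2 * a)) := by
  have hD := hS.good.toGood
  have hp := hD.simple_lt hi
  have hself : D.pairing (D.simple i) (D.simple i) = 2 := hD.pairing_self hp
  have split : ∀ g : GL D.Idx F, ng D F (D.simple i) v * g * (ng D F (D.simple i) v)⁻¹ =
      hg D F (D.simple i) v * (ng D F (D.simple i) 1 * g * (ng D F (D.simple i) 1)⁻¹) *
        (hg D F (D.simple i) v)⁻¹ := fun g => by rw [hD.ng_eq_hg_mul]; group
  obtain ⟨e1, e2⟩ := hD.eta_simple hi
  constructor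
  · rw [split, hD.ng_conj_x hi hp, hD.refl_simple hi, hD.hg_conj_x hp (hD.neg_lt hp) hv,
      hS.pairing_neg hp, hself, e1]
    congr 1
    rw [zpow_neg, Int.cast_neg, Int.cast_one, show (2 : ℤ) = ((2 : ℕ) : ℤ) from rfl, zpow_natCast]
    ring
  · rw [split, hD.ng_conj_x hi (hD.neg_lt hp), hD.refl_neg_simple hi, hD.hg_conj_x hp hp hv,
      hself, e2]
    congr 1
    rw [Int.cast_neg, Int.cast_one, show (2 : ℤ) = ((2 : ℕ) : ℤ) from rfl, zpow_natCast]
    ring

end SLD

namespace RelSys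

variable {Γ : Type*} [Group Γ] (R : RelSys D F Γ)

/-- `n_r(c)` -/
def nn (r : ℕ) (c : F) : Γ := R.y r c * R.y (D.neg r) (-c⁻¹) * R.y r c

/-- `h_r(c)` -/
def hh (r : ℕ) (c : F) : Γ := R.nn r c * R.nn r (-1)

/-- the product of `n_p(1)` along a word -/
def nW (w : List ℕ) : Γ := (w.map fun i => R.nn (D.simple i) 1).prod

theorem y_zero {r : ℕ} (hr : r < D.nroots) : R.y r 0 = 1 := by
  have := R.y_add r hr 0 0
  rw [add_zero] at this
  exact left_eq_mul.1 this

theorem y_neg {r : ℕ} (hr : r < D.nroots) (t : F) : R.y r (-t) = (R.y r t)⁻¹ := by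
  apply eq_inv_of_mul_eq_one_left
  rw [← R.y_add r hr, neg_add_cancel, R.y_zero hr]

theorem y_conj_of_empty {q x : ℕ} (hq : q < D.nroots) (hx : x < D.nroots) (hn : x ≠ D.neg q)
    (h : D.chainEntry q x = []) (a u : F) : R.y q a * R.y x u * (R.y q a)⁻¹ = R.y x u :=
  mul_inv_eq_of_eq_mul (R.comm0 q x hq hx hn h a u).eq

theorem y_conj_of_single {q x o : ℕ} {z : ℤ} (hq : q < D.nroots) (hx : x < D.nroots)
    (ho : o < D.nroots) (h : D.chainEntry q x = [(o, z)]) (a u : F) :
    R.y q a * R.y x u * (R.y q a)⁻¹ = R.y o ((z : F) * a * u) * R.y x u := by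
  rw [show R.y q a * R.y x u * (R.y q a)⁻¹ = ⁅R.y x u, R.y q a⁆⁻¹ * R.y x u by
    simp only [commutatorElement_def]; group, R.brk q x o z hq hx h, ← R.y_neg ho, neg_neg]

variable (hS : SLD D)
include hS

theorem π_nn {r : ℕ} (hr : r < D.nroots) (c : F) : R.π (R.nn r c) = ng D F r c := by
  rw [nn, ng, map_mul, map_mul, R.π_y r hr, R.π_y _ (hS.good.toGood.neg_lt hr)]

theorem π_hh {r : ℕ} (hr : r < D.nroots) (c : F) : R.π (R.hh r c) = hg D F r c := by
  rw [hh, hg, map_mul, R.π_nn hS hr, R.π_nn hS hr]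

theorem nn_inv {r : ℕ} (hr : r < D.nroots) (c : F) : (R.nn r c)⁻¹ = R.nn r (-c) := by
  simp only [nn, _root_.mul_inv_rev, ← R.y_neg hr, ← R.y_neg (hS.good.toGood.neg_lt hr), inv_neg,
    neg_neg, mul_assoc]

theorem π_nn_conj {i s : ℕ} (hi : i < D.rank) (hs : s < D.nroots) {c : F} (hc : c ≠ 0) (t : F) :
    R.π (R.nn (D.simple i) c * R.y s t * (R.nn (D.simple i) c)⁻¹) =
      xg D F (D.reflectRoot i s)
        (c ^ D.pairing (D.simple i) (D.reflectRoot i s) * ((eta D i s : F) * t)) := by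
  have hD := hS.good.toGood
  rw [map_mul, map_mul, map_inv, R.π_nn hS (hD.simple_lt hi), R.π_y s hs, hD.ng_eq_hg_mul,
    ← hD.hg_conj_x (hD.simple_lt hi) (hD.refl_lt hi hs) hc, ← hD.ng_conj_x hi hs]
  group

/-- `n_p(c)` maps root groups to root groups -/
theorem nn_conj_exists {i s : ℕ} (hi : i < D.rank) (hs : s < D.nroots) {c : F} (hc : c ≠ 0) (t : F) :
    ∃ γ, R.nn (D.simple i) c * R.y s t * (R.nn (D.simple i) c)⁻¹ = R.y (D.reflectRoot i s) γ := by
  have hD := hS.good.toGood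
  have hp := hD.simple_lt hi
  have gen : ∀ {s : ℕ}, s < D.nroots → s ≠ D.simple i → s ≠ D.neg (D.simple i) → ∀ t,
      ∃ γ, R.nn (D.simple i) c * R.y s t * (R.nn (D.simple i) c)⁻¹ =
        R.y (D.reflectRoot i s) γ := by
    intro s hs h1 h2 t
    set d := D.reflectRoot i s with hd
    have hdl : d < D.nroots := hD.refl_lt hi hs
    obtain ⟨hsd, hq⟩ := hS.tri_facts hi hs h1 h2
    obtain ⟨hd1, hd2⟩ := hS.refl_ne hi hs h1 h2
    have hcomm : ∀ α β, Commute (R.y s α) (R.y d β) := by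
      intro α β
      by_cases hne : d = s
      · rw [hne, Commute, SemiconjBy, ← R.y_add s hs, ← R.y_add s hs, add_comm]
      · exact R.comm0 s d hs hdl (hsd hne).2 (hsd hne).1 α β
    let P : Γ → Prop := fun g => ∃ α β, g = R.y s α * R.y d β
    have hPmul : ∀ g g', P g → P g' → P (g * g') := by
      rintro g g' ⟨α, β, rfl⟩ ⟨α', β', rfl⟩
      refine ⟨α + α', β + β', ?_⟩
      rw [R.y_add s hs, R.y_add d hdl, mul_assoc, ← mul_assoc (R.y d β), ← (hcomm α' β).eq]
      simp only [mul_assoc]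
    have hPs : ∀ α, P (R.y s α) := fun α => ⟨α, 0, by rw [R.y_zero hdl, mul_one]⟩
    have hPd : ∀ β, P (R.y d β) := fun β => ⟨0, β, by rw [R.y_zero hs, one_mul]⟩
    have hstep : ∀ q, q = D.simple i ∨ q = D.neg (D.simple i) → ∀ a g, P g →
        P (R.y q a * g * (R.y q a)⁻¹) := by
      intro q hqq a g hg
      obtain ⟨α, β, rfl⟩ := hg
      have hql : q < D.nroots := by
        rcases hqq with rfl | rfl
        exacts [hp, hD.neg_lt hp]
      have hxn : ∀ x, x ≠ D.simple i → x ≠ D.neg (D.simple i) → x ≠ D.neg q := by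
        rintro x hx hx'
        rcases hqq with rfl | rfl
        · exact hx'
        · rwa [hD.neg_neg hp]
      rw [show R.y q a * (R.y s α * R.y d β) * (R.y q a)⁻¹ =
        (R.y q a * R.y s α * (R.y q a)⁻¹) * (R.y q a * R.y d β * (R.y q a)⁻¹) by group]
      refine hPmul _ _ ?_ ?_
      · rcases hq q s d hqq (Or.inl ⟨rfl, rfl⟩) with e | ⟨z, e⟩
        · rw [R.y_conj_of_empty hql hs (hxn s h1 h2) e]; exact hPs α
        · rw [R.y_conj_of_single hql hs hdl e]; exact hPmul _ _ (hPd _) (hPs α)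
      · rcases hq q d s hqq (Or.inr ⟨rfl, rfl⟩) with e | ⟨z, e⟩
        · rw [R.y_conj_of_empty hql hdl (hxn d hd1 hd2) e]; exact hPd β
        · rw [R.y_conj_of_single hql hdl hs e]; exact hPmul _ _ (hPs _) (hPd β)
    obtain ⟨α, β, he⟩ : P (R.nn (D.simple i) c * R.y s t * (R.nn (D.simple i) c)⁻¹) := by
      rw [show R.nn (D.simple i) c * R.y s t * (R.nn (D.simple i) c)⁻¹ =
        R.y (D.simple i) c * (R.y (D.neg (D.simple i)) (-c⁻¹) *
          (R.y (D.simple i) c * R.y s t * (R.y (D.simple i) c)⁻¹) *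
          (R.y (D.neg (D.simple i)) (-c⁻¹))⁻¹) * (R.y (D.simple i) c)⁻¹ by
        simp only [nn]; group]
      exact hstep _ (Or.inl rfl) _ _ (hstep _ (Or.inr rfl) _ _ (hstep _ (Or.inl rfl) _ _ (hPs t)))
    by_cases hne : d = s
    · exact ⟨α + β, by rw [he, hne, ← R.y_add s hs]⟩
    · have h3 := congrArg R.π he
      rw [R.π_nn_conj hS hi hs hc, map_mul, R.π_y s hs, R.π_y d hdl] at h3
      set γ := c ^ D.pairing (D.simple i) d * ((eta D i s : F) * t)
      have h4 : xg D F s α = xg D F d (γ - β) := by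
        rw [sub_eq_add_neg, hD.xg_add, ← hD.xg_inv, h3, mul_inv_cancel_right]
      have hα : α = 0 := by
        by_contra hα
        exact hne (hS.xg_root_eq hs hdl hα h4).symm
      exact ⟨β, by rw [he, hα, R.y_zero hs, one_mul]⟩
  have dec : ∀ {r a b : ℕ} {z : ℤ}, r < D.nroots → a < D.nroots → b < D.nroots →
      D.chainEntry b a = [(r, z)] → a ≠ D.simple i → a ≠ D.neg (D.simple i) → b ≠ D.simple i →
      b ≠ D.neg (D.simple i) → ∀ t, ∃ γ, R.nn (D.simple i) c * R.y r t * (R.nn (D.simple i) c)⁻¹ =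
        R.y (D.reflectRoot i r) γ := by
    intro r a b z hr ha hb h ha1 ha2 hb1 hb2 t
    have hz := hS.intCast_mul_self (F := F) hb ha h
    obtain ⟨γ1, e1⟩ := gen ha ha1 ha2 (-((z : F) * t))
    obtain ⟨γ2, e2⟩ := gen hb hb1 hb2 1
    obtain ⟨z', hz'⟩ := CExt.bracket_transport hS (w := [i]) (by simpa using hi) ha hb h
    simp only [actW_cons, actW_nil] at hz'
    have hy : R.y r t = ⁅R.y a (-((z : F) * t)), R.y b 1⁆ := by
      rw [R.brk b a r z hb ha h]
      congr 1
      linear_combination -t * hz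
    refine ⟨-((z' : F) * γ2 * γ1), ?_⟩
    rw [hy, ← MulAut.conj_apply, map_commutatorElement, MulAut.conj_apply, MulAut.conj_apply, e1, e2]
    exact R.brk _ _ _ z' (hD.refl_lt hi hb) (hD.refl_lt hi ha) hz' _ _
  obtain ⟨a, b, z, ha, hb, hz, ha1, ha2, hb1, hb2⟩ := hS.exists_dec hi
  by_cases h1 : s = D.simple i
  · rw [h1]; exact dec hp ha hb hz ha1 ha2 hb1 hb2 t
  by_cases h2 : s = D.neg (D.simple i)
  · obtain ⟨z', hz'⟩ := CExt.bracket_transport hS (w := [i]) (by simpa using hi) ha hb hz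
    simp only [actW_cons, actW_nil, hD.refl_simple hi] at hz'
    rw [h2]
    exact dec (hD.neg_lt hp) (hD.refl_lt hi ha) (hD.refl_lt hi hb) hz'
      (hS.refl_ne hi ha ha1 ha2).1 (hS.refl_ne hi ha ha1 ha2).2
      (hS.refl_ne hi hb hb1 hb2).1 (hS.refl_ne hi hb hb1 hb2).2 t
  exact gen hs h1 h2 t

theorem nn_conj {i s : ℕ} (hi : i < D.rank) (hs : s < D.nroots) {c : F} (hc : c ≠ 0) (t : F) :
    R.nn (D.simple i) c * R.y s t * (R.nn (D.simple i) c)⁻¹ =
      R.y (D.reflectRoot i s)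
        (c ^ D.pairing (D.simple i) (D.reflectRoot i s) * ((eta D i s : F) * t)) := by
  have hD := hS.good.toGood
  obtain ⟨γ, e⟩ := R.nn_conj_exists hS hi hs hc t
  have h := congrArg R.π e
  rw [R.π_nn_conj hS hi hs hc, R.π_y _ (hD.refl_lt hi hs)] at h
  rw [e, ← hD.xg_injective (hD.refl_lt hi hs) h]

theorem n_conj {i s : ℕ} (hi : i < D.rank) (hs : s < D.nroots) (t : F) :
    R.nn (D.simple i) 1 * R.y s t * (R.nn (D.simple i) 1)⁻¹ =
      R.y (D.reflectRoot i s) ((eta D i s : F) * t) := by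
  rw [R.nn_conj hS hi hs one_ne_zero, one_zpow, one_mul]

theorem nW_conj {w : List ℕ} (hw : ∀ i ∈ w, i < D.rank) {s : ℕ} (hs : s < D.nroots) (t : F) :
    R.nW w * R.y s t * (R.nW w)⁻¹ = R.y (actW D w s) ((etaWord D w s : F) * t) := by
  have hD := hS.good.toGood
  induction w with
  | nil => simp [nW, etaWord]
  | cons i w ih =>
    have hw' : ∀ j ∈ w, j < D.rank := fun j hj => hw j (by simp [hj])
    rw [show R.nW (i :: w) = R.nn (D.simple i) 1 * R.nW w by simp [nW], actW_cons, etaWord,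
      show R.nn (D.simple i) 1 * R.nW w * R.y s t * (R.nn (D.simple i) 1 * R.nW w)⁻¹ =
        R.nn (D.simple i) 1 * (R.nW w * R.y s t * (R.nW w)⁻¹) * (R.nn (D.simple i) 1)⁻¹ by group,
      ih hw', R.n_conj hS (hw i (by simp)) (hD.actW_lt hw' hs), Int.cast_mul, mul_assoc]

theorem hh_simple_conj {i s : ℕ} (hi : i < D.rank) (hs : s < D.nroots) {a c : F} (ha : a ≠ 0)
    (hc : c ≠ 0) (t : F) : ∃ γ, R.nn (D.simple i) a * R.nn (D.simple i) c * R.y s t *
      (R.nn (D.simple i) a * R.nn (D.simple i) c)⁻¹ = R.y s γ := by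
  have hD := hS.good.toGood
  refine ⟨?_, ?_⟩
  · exact a ^ D.pairing (D.simple i) (D.reflectRoot i (D.reflectRoot i s)) *
      ((eta D i (D.reflectRoot i s) : F) *
        (c ^ D.pairing (D.simple i) (D.reflectRoot i s) * ((eta D i s : F) * t)))
  rw [show R.nn (D.simple i) a * R.nn (D.simple i) c * R.y s t *
      (R.nn (D.simple i) a * R.nn (D.simple i) c)⁻¹ = R.nn (D.simple i) a *
        (R.nn (D.simple i) c * R.y s t * (R.nn (D.simple i) c)⁻¹) * (R.nn (D.simple i) a)⁻¹ by group,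
    R.nn_conj hS hi hs hc, R.nn_conj hS hi (hD.refl_lt hi hs) ha, hD.refl_refl hi hs]

theorem hh_conj {r s : ℕ} (hr : r < D.nroots) (hs : s < D.nroots) {c : F} (hc : c ≠ 0) (t : F) :
    R.hh r c * R.y s t * (R.hh r c)⁻¹ = R.y s (c ^ D.pairing r s * t) := by
  have hD := hS.good.toGood
  suffices h : ∃ γ, R.hh r c * R.y s t * (R.hh r c)⁻¹ = R.y s γ by
    obtain ⟨γ, e⟩ := h
    have h' := congrArg R.π e
    rw [map_mul, map_mul, map_inv, R.π_hh hS hr, R.π_y s hs, R.π_y s hs,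
      hD.hg_conj_x hr hs hc] at h'
    rw [e, ← hD.xg_injective hs h']
  obtain ⟨w, hw, i, hi, rfl⟩ := hD.exists_word hr
  have hp := hD.simple_lt hi
  have hw' : ∀ j ∈ w.reverse, j < D.rank := fun j hj => hw j (List.mem_reverse.1 hj)
  set e : F := (etaWord D w (D.simple i) : F) with he
  have he2 : e * e = 1 := etaWord_mul_self w _
  have he0 : e ≠ 0 := left_ne_zero_of_mul_eq_one he2
  have hnn : ∀ x, R.nn (actW D w (D.simple i)) x = R.nW w * R.nn (D.simple i) (e * x) * (R.nW w)⁻¹ := by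
    intro x
    rw [← MulAut.conj_apply]
    simp only [nn, map_mul, MulAut.conj_apply]
    rw [R.nW_conj hS hw hp, R.nW_conj hS hw (hD.neg_lt hp), hD.actW_neg hw hp,
      hD.etaWord_neg hw hp, ← he, _root_.mul_inv, inv_eq_of_mul_eq_one_left he2,
      ← mul_assoc e e x, he2, one_mul, mul_neg, ← mul_assoc, he2, one_mul]
  set s' := actW D w.reverse s
  have hs' : s' < D.nroots := hD.actW_lt hw' hs
  have hback : actW D w s' = s := by
    have := actW_reverse hD hw' hs
    rwa [List.reverse_reverse] at this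
  set e' : F := (etaWord D w s' : F) with he'
  have hy : R.y s t = R.nW w * R.y s' (e' * t) * (R.nW w)⁻¹ := by
    rw [R.nW_conj hS hw hs', hback, ← mul_assoc, ← he', etaWord_mul_self, one_mul]
  obtain ⟨γ, hγ⟩ := R.hh_simple_conj hS hi hs' (mul_ne_zero he0 hc)
    (mul_ne_zero he0 (neg_ne_zero.2 one_ne_zero)) (e' * t)
  refine ⟨e' * γ, ?_⟩
  rw [hh, hnn, hnn, hy,
    show R.nW w * R.nn (D.simple i) (e * c) * (R.nW w)⁻¹ *
        (R.nW w * R.nn (D.simple i) (e * -1) * (R.nW w)⁻¹) * (R.nW w * R.y s' (e' * t) * (R.nW w)⁻¹) *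
        (R.nW w * R.nn (D.simple i) (e * c) * (R.nW w)⁻¹ *
          (R.nW w * R.nn (D.simple i) (e * -1) * (R.nW w)⁻¹))⁻¹ =
      R.nW w * (R.nn (D.simple i) (e * c) * R.nn (D.simple i) (e * -1) * R.y s' (e' * t) *
        (R.nn (D.simple i) (e * c) * R.nn (D.simple i) (e * -1))⁻¹) * (R.nW w)⁻¹ by group,
    hγ, R.nW_conj hS hw hs', hback]

/-- The root relations of the Bruhat engine. -/
noncomputable def rootRel (T : Model D) : RootRel Γ F T.S where
  x r t := R.y r.val t
  x_add r a b := R.y_add _ (T.lt r) a b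
  sgn i r := (eta D i.val r.val : F)
  sgn_sq i r := by rw [← Int.cast_mul, eta_mul_self, Int.cast_one]
  sgn_neg i r := by rw [T.neg_eq, hS.good.toGood.eta_neg (T.lt_l i) (T.lt r)]
  n_conj i r t := by
    simp only [nOf, T.neg_eq, T.simple_eq, T.refl_eq]
    exact R.n_conj hS (T.lt_l i) (T.lt r) t
  h_conj r c s hc := ⟨c ^ D.pairing r.val s.val, zpow_ne_zero _ hc, fun t => by
    simp only [hOf, nOf, T.neg_eq]
    exact R.hh_conj hS (T.lt r) (T.lt s) hc t⟩
  comm_mem i s t u hs hne := by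
    have hD := hS.good.toGood
    have hn := T.n_eq
    have hp := hD.simple_lt (T.lt_l i)
    have hpp : D.nroots ≤ 2 * D.simple i.val := by
      have h : T.tab.n ≤ 2 * (T.S.simple i).val := T.S.simple_pos i
      rw [T.simple_eq, hn] at h; exact h
    have hsp : D.nroots ≤ 2 * s.val := by
      have h : T.tab.n ≤ 2 * s.val := hs
      omega
    have hsne : s.val ≠ D.simple i.val := fun e => hne (Fin.ext (by rw [e, T.simple_eq]))
    have hsn : s.val ≠ D.neg (D.simple i.val) := by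
      rw [hS.neg_eq hp]
      have := hS.nroots_even
      omega
    simp only [T.simple_eq, R.y_neg hp]
    rcases hS.entry_cases hp (T.lt s) with e | ⟨c, z, e, hc, -, ho, -⟩
    · rw [R.y_conj_of_empty hp (T.lt s) hsn e]
      exact Subgroup.subset_closure ⟨s, u, hs, hne, rfl⟩
    · rw [R.y_conj_of_single hp (T.lt s) hc e]
      obtain ⟨h1, h2⟩ := ho hpp hsp
      refine mul_mem (Subgroup.subset_closure ⟨⟨c, hn.symm ▸ hc⟩, _, ?_, fun e' => ?_, rfl⟩)
        (Subgroup.subset_closure ⟨s, u, hs, hne, rfl⟩)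
      · show T.tab.n ≤ 2 * c
        omega
      · have := congrArg Fin.val e'
        rw [T.simple_eq] at this
        simp only at this
        omega

theorem rootRel_hr (T : Model D) (r : Fin T.tab.n) (c : F) :
    (R.rootRel hS T).hr r c = R.hh r.val c := by
  simp only [RootRel.hr, hOf, nOf, hh, nn, rootRel, T.neg_eq]

theorem rootRel_nw (T : Model D) (w : List (Fin T.tab.l)) :
    (R.rootRel hS T).nw w = R.nW (w.map Fin.val) := by
  simp only [RootRel.nw, nW, List.map_map]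
  congr 1
  refine List.map_congr_left fun i _ => ?_
  simp only [RootRel.n, RootRel.nr, nOf, Function.comp_apply, nn, rootRel, T.neg_eq, T.simple_eq]

omit hS in
theorem actw_val (T : Model D) (w : List (Fin T.tab.l)) (r : Fin T.tab.n) :
    (T.S.actw w r).val = actW D (w.map Fin.val) r.val := by
  induction w with
  | nil => rfl
  | cons i w ih => rw [RootIdx.actw_cons, T.refl_eq, List.map_cons, actW_cons, ih]

/-! ### The positive unipotent group embeds -/

/-- matrices preserving the span of the root vectors from `s₀` on -/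
def Low (s₀ : ℕ) (g : GL D.Idx F) : Prop :=
  ∀ (col : Fin D.nroots) (row : D.Idx), s₀ ≤ col.val →
    (g : Matrix D.Idx D.Idx F) row (Sum.inr col) ≠ 0 → ∃ u : Fin D.nroots, row = Sum.inr u ∧ s₀ ≤ u.val

omit hS in
theorem low_mul {s₀ : ℕ} {g h : GL D.Idx F} (hg : Low s₀ g) (hh : Low s₀ h) : Low s₀ (g * h) := by
  intro col row hcol hne
  rw [Units.val_mul, Matrix.mul_apply] at hne
  obtain ⟨x, -, hx⟩ := Finset.exists_ne_zero_of_sum_ne_zero hne
  obtain ⟨v, rfl, hv⟩ := hh col x hcol (right_ne_zero_of_mul hx)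
  exact hg v row hv (left_ne_zero_of_mul hx)

theorem low_xg {k v : ℕ} (hk : D.nroots ≤ 2 * k) (hv : v < D.nroots) (hkv : k < v) (t : F) :
    Low (D.neg k) (xg D F v t) := by
  have hD := hS.good.toGood
  have hkl : k < D.nroots := hkv.trans hv
  intro col row hcol hne
  rw [hD.val_xg, ChevalleyDatum.x, dif_pos hv] at hne
  by_cases hrc : row = Sum.inr col
  · exact ⟨col, hrc, hcol⟩
  rw [hS.neg_eq hkl] at hcol ⊢
  rcases Mat.xMat_off hrc hne with ⟨j, -, hj⟩ | ⟨s, hs, hsv, -⟩ | ⟨s, u, hs, rfl, -, e, he, he1, q, hq, hq1⟩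
  · cases hj
  · cases hs
    have hsv' : col.val = D.neg v := hsv
    rw [hS.neg_eq hv] at hsv'
    omega
  · cases hs
    refine ⟨u, rfl, ?_⟩
    have hsh := hS.shape
    simp only [Mat.shapeB, Bool.and_eq_true, List.all_eq_true, List.mem_range,
      decide_eq_true_eq] at hsh
    have := (hsh.2 v hv).2 e he q hq
    rw [if_pos (by omega)] at this
    simp only [decide_eq_true_eq] at this
    omega

theorem eq_zero_of_low {k : ℕ} (hk : k < D.nroots) {t : F}
    (h : Low (D.neg k) (xg D F k t)) : t = 0 := by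
  have hD := hS.good.toGood
  have hs := hD.neg_lt hk
  have key : ∀ j : Fin D.rank, (((D.coroot.getD k #[]).getD j.val 0 : ℤ) : F) * t = 0 := by
    intro j
    by_contra hne
    have hval : (xg D F k t : Matrix D.Idx D.Idx F) (Sum.inl j) (Sum.inr ⟨D.neg k, hs⟩) =
        (((D.coroot.getD k #[]).getD j.val 0 : ℤ) : F) * t := by
      rw [hD.val_xg, ChevalleyDatum.x, dif_pos hk]
      simp only [ChevalleyDatum.xMat, Matrix.of_apply, Fin.ext_iff]
      rw [show D.negIdx.getD k 0 = D.neg k from rfl, if_neg (hD.neg_ne hk), if_pos rfl]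
    obtain ⟨u, hu, -⟩ := h ⟨D.neg k, hs⟩ (Sum.inl j) le_rfl (by rw [hval]; exact hne)
    cases hu
  have hsh := hS.shape
  simp only [Mat.shapeB, Bool.and_eq_true, List.all_eq_true, List.mem_range, decide_eq_true_eq,
    Mat.primB, List.any_eq_true, beq_iff_eq] at hsh
  obtain ⟨i, hi, j, hj, hg⟩ := (hsh.2 k hk).1.2
  have h1 := key ⟨i, hi⟩
  have h2 := key ⟨j, hj⟩
  have hget : ∀ (a : Array ℤ) (n : ℕ), a.getD n 0 = a.toList.getD n 0 := by
    intro a n
    simp [Array.getD_eq_getD_getElem?, List.getD_eq_getElem?_getD]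
  simp only [hget] at h1 h2
  set a := (D.coroot.getD k #[]).toList.getD i 0
  set b := (D.coroot.getD k #[]).toList.getD j 0
  have hb := Int.gcd_eq_gcd_ab a b
  rw [hg] at hb
  have hb' : (1 : F) = (a : F) * (Int.gcdA a b : F) + (b : F) * (Int.gcdB a b : F) := by
    have := congrArg (Int.cast : ℤ → F) hb
    simpa using this
  calc t = 1 * t := (one_mul t).symm
    _ = (a : F) * t * (Int.gcdA a b : F) + (b : F) * t * (Int.gcdB a b : F) := by rw [hb']; ring
    _ = 0 := by rw [h1, h2]; ring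

/-- the group generated by the positive root elements from index `k` on -/
def Upper (k : ℕ) : Subgroup Γ :=
  Subgroup.closure {g | ∃ r t, r < D.nroots ∧ k ≤ r ∧ D.nroots ≤ 2 * r ∧ g = R.y r t}

theorem low_of_upper {k : ℕ} (hk : D.nroots ≤ 2 * k) (hkl : k < D.nroots) {g : Γ}
    (hg : g ∈ R.Upper (k + 1)) : Low (D.neg k) (R.π g) := by
  induction hg using Subgroup.closure_induction'' with
  | mem x hx =>
    obtain ⟨r, t, hr, hkr, -, rfl⟩ := hx
    rw [R.π_y r hr]
    exact low_xg hS hk hr (by omega) t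
  | inv_mem x hx =>
    obtain ⟨r, t, hr, hkr, -, rfl⟩ := hx
    rw [← R.y_neg hr, R.π_y r hr]
    exact low_xg hS hk hr (by omega) _
  | one =>
    intro col row hcol hne
    rw [map_one, Units.val_one, Matrix.one_apply] at hne
    split at hne
    · exact ⟨col, ‹_›, hcol⟩
    · exact absurd rfl hne
  | mul a b _ _ ha hb =>
    rw [map_mul]
    exact low_mul ha hb

theorem y_conj_upper {k : ℕ} (hk : k < D.nroots) (hkp : D.nroots ≤ 2 * k) (a : F) {g : Γ}
    (hg : g ∈ R.Upper (k + 1)) : R.y k a * g * (R.y k a)⁻¹ ∈ R.Upper (k + 1) := by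
  induction hg using Subgroup.closure_induction with
  | mem x hx =>
    obtain ⟨s, u, hs, hks, hsp, rfl⟩ := hx
    have hn : s ≠ D.neg k := by rw [hS.neg_eq hk]; omega
    rcases hS.entry_cases hk hs with e | ⟨c, z, e, hc, -, ho, -⟩
    · rw [R.y_conj_of_empty hk hs hn e]
      exact Subgroup.subset_closure ⟨s, u, hs, hks, hsp, rfl⟩
    · rw [R.y_conj_of_single hk hs hc e]
      obtain ⟨h1, h2⟩ := ho hkp hsp
      exact mul_mem (Subgroup.subset_closure ⟨c, _, hc, by omega, by omega, rfl⟩)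
        (Subgroup.subset_closure ⟨s, u, hs, hks, hsp, rfl⟩)
  | one => simp
  | mul x y _ _ hx hy => simpa [mul_assoc] using mul_mem hx hy
  | inv x _ hx => simpa [mul_assoc] using inv_mem hx

theorem upper_decomp {k : ℕ} (hk : k < D.nroots) (hkp : D.nroots ≤ 2 * k) {g : Γ}
    (hg : g ∈ R.Upper k) : ∃ a, ∃ g' ∈ R.Upper (k + 1), g = R.y k a * g' := by
  induction hg using Subgroup.closure_induction'' with
  | mem x hx =>
    obtain ⟨r, t, hr, hkr, hrp, rfl⟩ := hx
    rcases hkr.lt_or_eq with h | rfl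
    · exact ⟨0, _, Subgroup.subset_closure ⟨r, t, hr, h, hrp, rfl⟩, by rw [R.y_zero hk, one_mul]⟩
    · exact ⟨t, 1, one_mem _, (mul_one _).symm⟩
  | inv_mem x hx =>
    obtain ⟨r, t, hr, hkr, hrp, rfl⟩ := hx
    rw [← R.y_neg hr]
    rcases hkr.lt_or_eq with h | rfl
    · exact ⟨0, _, Subgroup.subset_closure ⟨r, _, hr, h, hrp, rfl⟩, by rw [R.y_zero hk, one_mul]⟩
    · exact ⟨-t, 1, one_mem _, (mul_one _).symm⟩
  | one => exact ⟨0, 1, one_mem _, by rw [R.y_zero hk, one_mul]⟩
  | mul x y _ _ hx hy =>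
    obtain ⟨a, x', hx', rfl⟩ := hx
    obtain ⟨b, y', hy', rfl⟩ := hy
    refine ⟨a + b, (R.y k (-b) * x' * (R.y k (-b))⁻¹) * y',
      mul_mem (R.y_conj_upper hS hk hkp _ hx') hy', ?_⟩
    rw [R.y_add k hk, R.y_neg hk]
    group

/-- `π` is injective on the positive unipotent group -/
theorem upper_injective {k : ℕ} (hkp : D.nroots ≤ 2 * k) {g : Γ} (hg : g ∈ R.Upper k)
    (h : R.π g = 1) : g = 1 := by
  have hD := hS.good.toGood
  induction hm : D.nroots - k generalizing k g with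
  | zero =>
    have : R.Upper k = ⊥ := by
      rw [Upper, Subgroup.closure_eq_bot_iff]
      rintro x ⟨r, t, hr, hkr, -, rfl⟩
      omega
    rw [this] at hg
    exact Subgroup.mem_bot.1 hg
  | succ m ih =>
    have hk : k < D.nroots := by omega
    obtain ⟨a, g', hg', rfl⟩ := R.upper_decomp hS hk hkp hg
    rw [map_mul, R.π_y k hk, mul_eq_one_iff_inv_eq, hD.xg_inv] at h
    have ha := eq_zero_of_low hS hk (h ▸ R.low_of_upper hS hkp hk hg' : Low (D.neg k) (xg D F k (-a)))
    rw [neg_eq_zero] at ha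
    subst ha
    rw [R.y_zero hk, one_mul]
    rw [neg_zero, hD.xg_zero] at h
    exact ih (by omega) hg' h.symm (by omega)

theorem U_injective (T : Model D) {g : Γ} (hg : g ∈ (R.rootRel hS T).U) (h : R.π g = 1) : g = 1 := by
  have hn := T.n_eq
  have he := hS.nroots_even
  refine R.upper_injective hS (k := D.nroots / 2) (by omega) ?_ h
  refine (Subgroup.closure_mono ?_) hg
  rintro x ⟨r, t, hr, rfl⟩
  have hr' : T.tab.n ≤ 2 * r.val := hr
  exact ⟨r.val, t, T.lt r, by omega, by omega, rfl⟩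

/-! ### The kernel -/

omit hS in
theorem tri_diagonal {χ : D.Idx → F} (hχ : ∀ a, χ a ≠ 0) : Tri (keyOf D) (Matrix.diagonal χ) :=
  ⟨fun a b hab _ => Matrix.diagonal_apply_ne _ hab, fun a => by
    rw [Matrix.diagonal_apply_eq]; exact hχ a⟩

theorem uni_of_U (T : Model D) {g : Γ} (hg : g ∈ (R.rootRel hS T).U) :
    Uni (keyOf D) (R.π g : Matrix D.Idx D.Idx F) := by
  have hD := hS.good.toGood
  have key : ∀ (r : Fin T.tab.n) (t : F), T.S.pos r →
      Uni (keyOf D) (R.π (R.y r.val t) : Matrix D.Idx D.Idx F) := by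
    intro r t hr a b hab
    have hr' : T.tab.n ≤ 2 * r.val := hr
    rw [R.π_y _ (T.lt r), hD.val_xg, ChevalleyDatum.x, dif_pos (T.lt r)]
    refine Mat.xMat_uni hS.shape _ t a b ?_
    rw [if_pos (by have := T.n_eq; simp only; omega)]
    exact hab
  induction hg using Subgroup.closure_induction'' with
  | mem x hx => obtain ⟨r, t, hr, rfl⟩ := hx; exact key r t hr
  | inv_mem x hx =>
    obtain ⟨r, t, hr, rfl⟩ := hx
    show Uni (keyOf D) (R.π (R.y r.val t)⁻¹ : Matrix D.Idx D.Idx F)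
    rw [← R.y_neg (T.lt r)]
    exact key r _ hr
  | one => intro a b _; simp [Matrix.one_apply]
  | mul x y _ _ hx hy => rw [map_mul, Units.val_mul]; exact hx.mul hy

theorem diag_of_H (T : Model D) {g : Γ} (hg : g ∈ (R.rootRel hS T).H) :
    ∃ χ : D.Idx → F, (∀ a, χ a ≠ 0) ∧ (R.π g : Matrix D.Idx D.Idx F) = Matrix.diagonal χ := by
  have hD := hS.good.toGood
  have key : ∀ (r : Fin T.tab.n) (c : F), c ≠ 0 → ∃ χ : D.Idx → F, (∀ a, χ a ≠ 0) ∧
      (ChevCore.hg D F r.val c : Matrix D.Idx D.Idx F) = Matrix.diagonal χ := fun r c hc =>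
    ⟨hDiag D r.val c, fun a => zpow_ne_zero _ hc, hD.hg_eq_diag (T.lt r) hc⟩
  induction hg using Subgroup.closure_induction'' with
  | mem x hx =>
    obtain ⟨r, c, hc, rfl⟩ := hx
    rw [R.rootRel_hr hS, R.π_hh hS (T.lt r)]
    exact key r c hc
  | inv_mem x hx =>
    obtain ⟨r, c, hc, rfl⟩ := hx
    have h1 : (ChevCore.hg D F r.val c)⁻¹ = ChevCore.hg D F r.val c⁻¹ := by
      refine inv_eq_of_mul_eq_one_right ?_
      rw [hD.hg_mul (T.lt r) hc (inv_ne_zero hc), mul_inv_cancel₀ hc, ChevCore.hg, ← hD.ng_inv,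
        mul_inv_cancel]
    rw [map_inv, R.rootRel_hr hS, R.π_hh hS (T.lt r), h1]
    exact key r _ (inv_ne_zero hc)
  | one => exact ⟨fun _ => 1, fun _ => one_ne_zero, by simp⟩
  | mul x y _ _ hx hy =>
    obtain ⟨χ, hχ, e⟩ := hx
    obtain ⟨χ', hχ', e'⟩ := hy
    exact ⟨fun a => χ a * χ' a, fun a => mul_ne_zero (hχ a) (hχ' a), by
      rw [map_mul, Units.val_mul, e, e', Matrix.diagonal_mul_diagonal]⟩

theorem tri_of_B (T : Model D) {g : Γ} (hg : g ∈ (R.rootRel hS T).B) :
    Tri (keyOf D) (R.π g : Matrix D.Idx D.Idx F) := by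
  obtain ⟨u, hu, h, hh, rfl⟩ := (R.rootRel hS T).mem_B_iff.1 hg
  obtain ⟨χ, hχ, e⟩ := R.diag_of_H hS T hh
  rw [map_mul, Units.val_mul, e]
  exact (R.uni_of_U hS T hu).tri.mul (tri_diagonal hχ)

theorem not_tri_neg_simple (T : Model D) (i : Fin T.tab.l) {γ : F} (hγ : γ ≠ 0) :
    ¬ Tri (keyOf D) (xg D F (D.neg (D.simple i.val)) γ : Matrix D.Idx D.Idx F) := by
  have hD := hS.good.toGood
  have hp := hD.simple_lt (T.lt_l i)
  have hnp := hD.neg_lt hp
  intro h
  have hpp : T.tab.n ≤ 2 * (T.S.simple i).val := T.S.simple_pos i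
  rw [T.simple_eq] at hpp
  have hn := T.n_eq
  have hne := hD.neg_ne hp
  have h1 := h.1 (Sum.inr ⟨D.neg (D.simple i.val), hnp⟩) (Sum.inr ⟨D.simple i.val, hp⟩)
    (fun e => hne (by simpa using e)) (by
      simp only [keyOf]
      have := hS.neg_eq hp
      omega)
  rw [hD.val_xg, ChevalleyDatum.x, dif_pos hnp] at h1
  simp only [ChevalleyDatum.xMat, Matrix.of_apply, Fin.ext_iff] at h1
  have hnn : D.negIdx.getD (D.neg (D.simple i.val)) 0 = D.simple i.val := hD.neg_neg hp
  rw [if_neg hne.symm, if_pos hnn.symm, if_neg hne] at h1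
  simp only [if_true] at h1
  exact hγ (pow_eq_zero_iff (n := 2) (by norm_num) |>.1 (neg_eq_zero.1 h1))

theorem mem_top_of_gen (T : Model D)
    (hgen : Subgroup.closure {g | ∃ r t, r < D.nroots ∧ g = R.y r t} = ⊤) (g : Γ) :
    g ∈ (R.rootRel hS T).B ⊔ Subgroup.closure (Set.range (R.rootRel hS T).n) := by
  have hD := hS.good.toGood
  have hwit : ∀ r, ∃ w j, T.S.actw w (T.S.simple j) = r := by
    intro r
    obtain ⟨w, hw, i, hi, he⟩ := hD.exists_word (T.lt r)
    have hl := T.l_eq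
    refine ⟨w.pmap (fun k hk => (⟨k, hl.symm ▸ hk⟩ : Fin T.tab.l)) hw, ⟨i, hl.symm ▸ hi⟩, ?_⟩
    apply Fin.ext
    rw [actw_val, T.simple_eq, List.map_pmap]
    simpa using he
  have hle : Subgroup.closure {g | ∃ r t, r < D.nroots ∧ g = R.y r t} ≤
      (R.rootRel hS T).B ⊔ Subgroup.closure (Set.range (R.rootRel hS T).n) := by
    rw [Subgroup.closure_le]
    rintro x ⟨r, t, hr, rfl⟩
    exact (R.rootRel hS T).x_mem_gen hwit ⟨r, T.n_eq.symm ▸ hr⟩ t
  exact hle (hgen ▸ Subgroup.mem_top g)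

/-- The kernel lies in the torus. -/
theorem ker_le_H (T : Model D)
    (hgen : Subgroup.closure {g | ∃ r t, r < D.nroots ∧ g = R.y r t} = ⊤) :
    R.π.ker ≤ (R.rootRel hS T).H := by
  have hD := hS.good.toGood
  intro k hk
  obtain ⟨b, hb, v, hv, b', hb', e⟩ :=
    (R.rootRel hS T).exists_bruhat (R.mem_top_of_gen hS T hgen k)
  rw [MonoidHom.mem_ker] at hk
  cases v with
  | nil =>
    rw [RootRel.nw_nil, mul_one] at e
    obtain ⟨u, hu, h, hh, e'⟩ := (R.rootRel hS T).mem_B_iff.1 (e ▸ mul_mem hb hb')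
    obtain ⟨χ, hχ, hd⟩ := R.diag_of_H hS T hh
    have hu1 : R.π u = 1 := by
      have h1 : R.π u * R.π h = 1 := by rw [← map_mul, e']; exact hk
      refine Units.ext ?_
      rw [Units.val_one]
      ext a c
      rcases eq_or_ne a c with rfl | hac
      · rw [R.uni_of_U hS T hu a a le_rfl, if_pos rfl, Matrix.one_apply_eq]
      · rw [Matrix.one_apply_ne hac]
        have h2 := congrArg (fun g : GL D.Idx F => (g : Matrix D.Idx D.Idx F) a c) h1
        simp only [Units.val_mul, hd, Matrix.mul_diagonal, Units.val_one, Matrix.one_apply_ne hac] at h2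
        exact (mul_eq_zero.1 h2).resolve_right (hχ c)
    rw [← e', R.U_injective hS T hu hu1, one_mul]
    exact hh
  | cons i w =>
    exfalso
    obtain ⟨hpos, hact⟩ := T.S.red_cons_root hv
    set r := T.S.actw w.reverse (T.S.simple i) with hr
    have hv' : ∀ j ∈ (i :: w).map Fin.val, j < D.rank := fun j hj => by
      obtain ⟨j', -, rfl⟩ := List.mem_map.1 hj
      exact T.lt_l j'
    have hB : b⁻¹ * k * b'⁻¹ = (R.rootRel hS T).nw (i :: w) := by rw [e]; group
    have h1 := R.nW_conj hS hv' (T.lt r) (1 : F)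
    rw [← R.rootRel_nw hS T, ← actw_val, hact, T.neg_eq, T.simple_eq, mul_one] at h1
    set q := b⁻¹ * b'⁻¹
    have hq : q ∈ (R.rootRel hS T).B := mul_mem (inv_mem hb) (inv_mem hb')
    have hπ : R.π ((R.rootRel hS T).nw (i :: w)) = R.π q := by
      rw [← hB, map_mul, map_mul, hk, mul_one, map_mul]
    have h2 := congrArg R.π h1
    rw [map_mul, map_mul, map_inv, hπ, ← map_inv, ← map_mul, ← map_mul,
      R.π_y (D.neg (D.simple i.val)) (hD.neg_lt (hD.simple_lt (T.lt_l i)))] at h2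
    have h3 : q * R.y r.val 1 * q⁻¹ ∈ (R.rootRel hS T).B :=
      mul_mem (mul_mem hq ((R.rootRel hS T).x_mem_B hpos 1)) (inv_mem hq)
    refine not_tri_neg_simple hS T i ?_ (h2 ▸ R.tri_of_B hS T h3)
    exact left_ne_zero_of_mul_eq_one (etaWord_mul_self _ _)

/-- An element of the torus over `1` is central. -/
theorem mem_center_of_H (T : Model D)
    (hgen : Subgroup.closure {g | ∃ r t, r < D.nroots ∧ g = R.y r t} = ⊤) {k : Γ}
    (hk : k ∈ (R.rootRel hS T).H) (h1 : R.π k = 1) : k ∈ Subgroup.center Γ := by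
  have hD := hS.good.toGood
  rw [← Subgroup.centralizer_univ, Subgroup.mem_centralizer_iff]
  intro g _
  have hg : g ∈ Subgroup.centralizer {k} := by
    have hle : Subgroup.closure {g | ∃ r t, r < D.nroots ∧ g = R.y r t} ≤
        Subgroup.centralizer {k} := by
      rw [Subgroup.closure_le]
      rintro x ⟨r, t, hr, rfl⟩
      rw [SetLike.mem_coe, Subgroup.mem_centralizer_singleton_iff]
      obtain ⟨a, -, ha⟩ := (R.rootRel hS T).H_scales hk ⟨r, T.n_eq.symm ▸ hr⟩
      have h2 : k * R.y r t * k⁻¹ = R.y r (a * t) := ha t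
      have h3 := congrArg R.π h2
      rw [map_mul, map_mul, map_inv, h1, one_mul, inv_one, mul_one, R.π_y r hr, R.π_y r hr] at h3
      rw [← hD.xg_injective hr h3] at h2
      exact (mul_inv_eq_iff_eq_mul.1 h2).symm
    exact hle (hgen ▸ Subgroup.mem_top g)
  exact Subgroup.mem_centralizer_singleton_iff.1 hg

/-- The kernel is central. -/
theorem ker_le_center (T : Model D)
    (hgen : Subgroup.closure {g | ∃ r t, r < D.nroots ∧ g = R.y r t} = ⊤) :
    R.π.ker ≤ Subgroup.center Γ := fun _ hk =>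
  R.mem_center_of_H hS T hgen (R.ker_le_H hS T hgen hk) hk

end RelSys

end Cfsg.Agent.KnownSimple.Steinberg
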