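import Cfsg.Agent.KnownSimple.Steinberg.Cert
import Cfsg.Agent.Lib.ChevCore.CommGroup
import Cfsg.Agent.Lib.ChevCore.Torus
import Cfsg.Agent.ChevGroup.Mat.Data

/-!
Facts on the root elements of a simply laced datum (helper53).
-/

set_option autoImplicit false

namespace Cfsg.Agent.KnownSimple.Steinberg

open Cfsg.Lie Cfsg.Agent.ChevCore
open scoped commutatorElement

variable {D : ChevalleyDatum}

/-- A simply laced datum with its certificates. -/
structure SLD (D : ChevalleyDatum) : Prop where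
  good : CommGood D
  cert : SLCert D
  shape : Cfsg.Agent.ChevGroup.Mat.shapeB D = true

theorem mul_self_eq_one_of_or {z : ℤ} (h : z = 1 ∨ z = -1) : z * z = 1 := by
  rcases h with rfl | rfl <;> rfl

namespace SLD

variable (hS : SLD D)
include hS

theorem entry_cases {r s : ℕ} (hr : r < D.nroots) (hs : s < D.nroots) :
    D.chainEntry r s = [] ∨ ∃ c z, D.chainEntry r s = [(c, z)] ∧ c < D.nroots ∧ z * z = 1 ∧
      (D.nroots ≤ 2 * r → D.nroots ≤ 2 * s → r < c ∧ s < c) ∧
      (2 * r < D.nroots → 2 * s < D.nroots → c < r ∧ c < s) ∧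
      (∃ z', D.chainEntry (D.neg s) c = [(r, z')]) ∧ ∃ z', D.chainEntry s r = [(c, z')] := by
  have h := hS.cert.table
  simp only [chkTable, kallUpTo_iff, forceN_eq] at h
  have h' := h r hr s hs
  rw [singleK_iff] at h'
  rcases h' with ⟨e, -⟩ | ⟨c, z, e, hk⟩
  · exact Or.inl e
  · simp only [Bool.and_eq_true, Bool.or_eq_true, zEq_iff, Nat.blt_eq, hit_iff, std_negf,
      std_look, ordK, Bool.not_eq_true', Bool.and_eq_false_iff] at hk
    obtain ⟨⟨⟨⟨hc, hz⟩, ho1, ho2⟩, hh1⟩, hh2⟩ := hk
    refine Or.inr ⟨c, z, e, hc, mul_self_eq_one_of_or hz, fun h1 h2 => ?_, fun h1 h2 => ?_, hh1, hh2⟩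
    · refine ho1.resolve_left ?_
      rintro (h | h)
      · rw [← Nat.ble_eq] at h1; rw [h1] at h; cases h
      · rw [← Nat.ble_eq] at h2; rw [h2] at h; cases h
    · refine ho2.resolve_left ?_
      rintro (h | h)
      · rw [← Nat.blt_eq] at h1; rw [h1] at h; cases h
      · rw [← Nat.blt_eq] at h2; rw [h2] at h; cases h

theorem entry_single {r s c : ℕ} {z : ℤ} (hr : r < D.nroots) (hs : s < D.nroots)
    (h : D.chainEntry r s = [(c, z)]) : c < D.nroots ∧ z * z = 1 ∧
      (D.nroots ≤ 2 * r → D.nroots ≤ 2 * s → r < c ∧ s < c) ∧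
      (2 * r < D.nroots → 2 * s < D.nroots → c < r ∧ c < s) ∧
      (∃ z', D.chainEntry (D.neg s) c = [(r, z')]) ∧ ∃ z', D.chainEntry s r = [(c, z')] := by
  rcases hS.entry_cases hr hs with e | ⟨c', z', e, hrest⟩
  · simp [h] at e
  · simp only [h, List.cons.injEq, Prod.mk.injEq, and_true] at e
    obtain ⟨rfl, rfl⟩ := e
    exact hrest

theorem neg_eq {r : ℕ} (hr : r < D.nroots) : D.neg r = D.nroots - 1 - r := by
  have h := hS.shape
  simp only [Cfsg.Agent.ChevGroup.Mat.shapeB, Bool.and_eq_true, List.all_eq_true, List.mem_range,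
    decide_eq_true_eq] at h
  exact (h.2 r hr).1.1

theorem nroots_even : D.nroots % 2 = 0 := by
  have h := hS.shape
  simp only [Cfsg.Agent.ChevGroup.Mat.shapeB, Bool.and_eq_true, decide_eq_true_eq] at h
  exact h.1

theorem commWord_eq {F : Type*} [Field F] {r s : ℕ} (hr : r < D.nroots) (hs : s < D.nroots)
    (t u : F) : D.commWord F r s t u =
      (D.chainEntry r s).map fun e => (e.1, (e.2 : F) * (-t) * u) := by
  have hlen : ∀ {a b : ℕ}, a < D.nroots → b < D.nroots → (D.chainEntry a b).length ≤ 1 :=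
    fun ha hb => by
      rcases hS.entry_cases ha hb with e | ⟨c, z, e, -⟩ <;> simp [e]
  have e1 := hlen hr hs
  have e2 := hlen hs hr
  have hne : ∀ (L : SVec), L.length ≤ 1 → ∀ i, 1 ≤ i → L[i]? = none := fun L hL i hi =>
    List.getElem?_eq_none (by omega)
  rw [ChevalleyDatum.commWord, ← commW_std]
  simp only [commW, std_look, hne _ e1 1 le_rfl, hne _ e1 2 (by omega), hne _ e2 1 le_rfl,
    hne _ e2 2 (by omega), Option.map_none, Option.bind_none, Option.getD_none]
  rcases he : D.chainEntry r s with _ | ⟨e, _ | ⟨f, L⟩⟩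
  · simp
  · simp
  · simp [he] at e1

variable {F : Type*} [Field F]

theorem xg_commute {r s : ℕ} (hr : r < D.nroots) (hs : s < D.nroots) (hn : s ≠ D.neg r)
    (h : D.chainEntry r s = []) (t u : F) : Commute (xg D F r t) (xg D F s u) := by
  by_cases h1 : s = r
  · subst h1
    rw [Commute, SemiconjBy, ← hS.good.toGood.xg_add, ← hS.good.toGood.xg_add, add_comm]
  · have := hS.good.xg_comm hr hs h1 hn t u
    rw [hS.commWord_eq hr hs, h] at this
    simpa [wordG, Commute, SemiconjBy] using this.symm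

theorem xg_bracket {r s c : ℕ} {z : ℤ} (hr : r < D.nroots) (hs : s < D.nroots)
    (h1 : s ≠ r) (hn : s ≠ D.neg r) (h : D.chainEntry r s = [(c, z)]) (t u : F) :
    ⁅xg D F s u, xg D F r t⁆ = xg D F c (-((z : F) * t * u)) := by
  have h2 := hS.good.xg_comm hr hs h1 hn (-t) (-u)
  rw [hS.commWord_eq hr hs, h] at h2
  simp only [List.map_cons, List.map_nil, wordG, List.prod_cons, List.prod_nil, mul_one] at h2
  rw [← hS.good.toGood.xg_inv, ← hS.good.toGood.xg_inv] at h2
  have e : xg D F c (-((z : F) * t * u)) = xg D F c ((z : F) * - -t * -u) := by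
    congr 1; ring
  rw [e, commutatorElement_def]
  calc xg D F s u * xg D F r t * (xg D F s u)⁻¹ * (xg D F r t)⁻¹
      = xg D F s u * xg D F r t * ((xg D F s u)⁻¹ * (xg D F r t)⁻¹) := by group
    _ = xg D F s u * xg D F r t *
          ((xg D F r t)⁻¹ * (xg D F s u)⁻¹ * xg D F c ((z : F) * - -t * -u)) := by rw [← h2]
    _ = _ := by group

end SLD

theorem actW_reverse (hD : Good D) {w : List ℕ} (hw : ∀ i ∈ w, i < D.rank) {r : ℕ}
    (hr : r < D.nroots) : actW D w.reverse (actW D w r) = r := by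
  induction w with
  | nil => rfl
  | cons i w ih =>
    have hw' : ∀ j ∈ w, j < D.rank := fun j hj => hw j (by simp [hj])
    have hi := hw i (by simp)
    rw [List.reverse_cons, actW_append, actW_cons, actW_cons, actW_nil,
      hD.refl_refl hi (hD.actW_lt hw' hr), ih hw']

namespace SLD

variable (hS : SLD D) {F : Type*} [Field F]
include hS

theorem xg_simple_eq {i r : ℕ} (hi : i < D.rank) (hr : r < D.nroots) {t u : F} (ht : t ≠ 0)
    (h : xg D F (D.simple i) t = xg D F r u) : r = D.simple i := by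
  by_contra hne
  have hD := hS.good.toGood
  have hp := hD.simple_lt hi
  have e := congrArg (fun g : GL D.Idx F => (g : Matrix D.Idx D.Idx F) (Sum.inl ⟨i, hi⟩)
    (Sum.inr ⟨D.neg (D.simple i), hD.neg_lt hp⟩)) h
  simp only [hD.val_xg, ChevalleyDatum.x, dif_pos hp, dif_pos hr] at e
  have hnp : D.neg (D.simple i) ≠ D.simple i := hD.neg_ne hp
  have hnr : D.neg (D.simple i) ≠ D.neg r := fun he => hne (hD.neg_inj hp hr he).symm
  have hco : (D.coroot.getD (D.simple i) #[]).getD i 0 = 1 := by
    rw [hD.coroot_simple hi hi, if_pos rfl]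
  simp only [ChevalleyDatum.xMat, Matrix.of_apply, Fin.ext_iff] at e
  rw [show D.negIdx.getD (D.simple i) 0 = D.neg (D.simple i) from rfl,
    show D.negIdx.getD r 0 = D.neg r from rfl, if_neg hnp, if_pos rfl, hco, Int.cast_one, one_mul] at e
  by_cases h2 : D.neg (D.simple i) = r
  · rw [if_pos h2] at e; exact ht e
  · rw [if_neg h2, if_neg] at e
    · exact ht e
    · exact hnr

/-- a root element determines its root -/
theorem xg_root_eq {c r : ℕ} (hc : c < D.nroots) (hr : r < D.nroots) {t u : F} (ht : t ≠ 0)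
    (h : xg D F c t = xg D F r u) : c = r := by
  have hD := hS.good.toGood
  obtain ⟨w, hw, i, hi, rfl⟩ := hD.exists_word hc
  have hw' : ∀ j ∈ w.reverse, j < D.rank := fun j hj => hw j (List.mem_reverse.1 hj)
  have h2 := congrArg (fun g => nw D F w.reverse * g * (nw D F w.reverse)⁻¹) h
  simp only [hD.nw_conj_x hw' hc, hD.nw_conj_x hw' hr,
    actW_reverse hD hw (hD.simple_lt hi)] at h2
  have hne : (etaWord D w.reverse (actW D w (D.simple i)) : F) * t ≠ 0 := by
    refine mul_ne_zero (fun h0 => ?_) ht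
    have := congrArg (Int.cast : ℤ → F) (Good.etaWord_sq (D := D) w.reverse (actW D w (D.simple i)))
    rw [Int.cast_mul, h0, zero_mul, Int.cast_one] at this
    exact zero_ne_one this
  have h3 := hS.xg_simple_eq hi (hD.actW_lt hw' hr) hne h2
  rw [← h3]
  have := actW_reverse hD hw' hr
  rwa [List.reverse_reverse] at this

theorem bracket_ne {r s c : ℕ} {z : ℤ} (hr : r < D.nroots) (hs : s < D.nroots)
    (h : D.chainEntry r s = [(c, z)]) : s ≠ r ∧ s ≠ D.neg r := by
  have hD := hS.good.toGood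
  have hne : D.chainEntry r s ≠ [] := by simp [h]
  exact ⟨(hD.chain_facts hr hs hne).1, (hD.chain_facts hr hs hne).2.1⟩

end SLD

end Cfsg.Agent.KnownSimple.Steinberg
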