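import Cfsg.Agent.KnownSimple.Steinberg.StRel

/-!
The presented Steinberg groups over a finite field as stem extensions of the matrix group (helper53).
-/

set_option autoImplicit false

namespace Cfsg.Agent.KnownSimple.Steinberg

open Cfsg Cfsg.Lie Cfsg.Agent.ChevCore Cfsg.Agent.ChevGroup
open scoped commutatorElement

variable {D : ChevalleyDatum} {F : Type*} [Field F] {Γ : Type*} [Group Γ]

theorem RelSys.y_mem_commutator (R : RelSys D F Γ) (hS : SLD D) {r : ℕ} (hr : r < D.nroots)
    (t : F) : R.y r t ∈ commutator Γ := by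
  have hD := hS.good.toGood
  obtain ⟨w, hw, i, hi, rfl⟩ := hD.exists_word hr
  have hp := hD.simple_lt hi
  obtain ⟨a, b, z, ha, hb, hz, -⟩ := hS.exists_dec hi
  have hz2 := hS.intCast_mul_self (F := F) hb ha hz
  set e : F := (etaWord D w (D.simple i) : F)
  have hs : R.y (D.simple i) (e * t) ∈ commutator Γ := by
    rw [show R.y (D.simple i) (e * t) = ⁅R.y a (-((z : F) * (e * t))), R.y b 1⁆ by
      rw [R.brk b a _ z hb ha hz]; congr 1; linear_combination -(e * t) * hz2]
    exact Subgroup.commutator_mem_commutator (Subgroup.mem_top _) (Subgroup.mem_top _)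
  have h := (inferInstance : (commutator Γ).Normal).conj_mem _ hs (R.nW w)
  rwa [R.nW_conj hS hw hp, ← mul_assoc, etaWord_mul_self, one_mul] at h

namespace StData

variable (S : StData D F Γ) (hS : SLD D) (T : Model D)

include S hS

theorem π_mem (g : Γ) : S.π g ∈ D.group F := by
  have hD := hS.good.toGood
  have h := S.closure_gen hS ▸ Subgroup.mem_top g
  induction h using Subgroup.closure_induction with
  | mem x hx =>
    obtain ⟨r, t, hr, rfl⟩ := hx
    show S.π (S.gen r t) ∈ _
    rw [S.π_gen hr]
    exact xg_mem_group hD hr t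
  | one => simp
  | mul a b _ _ ha hb => rw [map_mul]; exact mul_mem ha hb
  | inv a _ ha => rw [map_inv]; exact inv_mem ha

/-- The map onto the Chevalley group. -/
def toGp : Γ →* ↥(D.group F) := S.π.codRestrict (D.group F) (S.π_mem hS)

theorem toGp_surjective : Function.Surjective (S.toGp hS) := by
  have hD := hS.good.toGood
  rintro ⟨g, hg⟩
  have h : g ∈ S.π.range := by
    rw [group_eq_closure_xg hD] at hg
    refine (Subgroup.closure_le _).2 ?_ hg
    rintro x ⟨r, t, hr, rfl⟩
    exact ⟨S.gen r t, S.π_gen hr t⟩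
  obtain ⟨a, rfl⟩ := h
  exact ⟨a, rfl⟩

theorem perfect : commutator Γ = ⊤ := by
  rw [eq_top_iff, ← S.closure_gen hS, Subgroup.closure_le]
  rintro x ⟨r, t, hr, rfl⟩
  exact (S.relSys hS).y_mem_commutator hS hr t

theorem ker_toGp : (S.toGp hS).ker = S.π.ker := MonoidHom.ker_codRestrict _ _ _

include T in
theorem stem : IsStemExtension (S.toGp hS) := by
  refine ⟨S.toGp_surjective hS, ?_, by rw [S.perfect hS]; exact le_top⟩
  rw [S.ker_toGp hS]
  exact (S.relSys hS).ker_le_center hS T (S.closure_gen hS)

include T in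
theorem finite [Fintype F] {k m : ℕ} {e : List ℕ} {W : List (List ℤ)}
    (h : elimB D k m e W = true) (hm : 0 < m) : Finite Γ := by
  have h1 : Finite ↥S.π.ker := ((S.relSys hS).card_ker_le hS T (S.closure_gen hS) h hm).1
  have h2 : Finite (Γ ⧸ S.π.ker) :=
    Finite.of_equiv _ (QuotientGroup.quotientKerEquivRange S.π).symm.toEquiv
  exact Finite.of_subgroup_quotient S.π.ker

end StData

end Cfsg.Agent.KnownSimple.Steinberg
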