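import Cfsg.Agent.KnownSimple.Steinberg.RelSys

/-!
Over a finite field the relation (R3) follows from (R1), (R2): the torus elements multiply as they should
and the kernel is the image of the centre of the universal group (helper53).
-/

set_option autoImplicit false

namespace Cfsg.Agent.KnownSimple.Steinberg

open Cfsg.Lie Cfsg.Agent.ChevCore Cfsg.Agent.ChevGroup
open scoped commutatorElement

variable {D : ChevalleyDatum} {F : Type*} [Field F]

/-- In a finite field of odd order some `t` and `1 - t` are both non-squares. -/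
theorem exists_nonsquare_pair [Finite F] (h2 : ringChar F ≠ 2) :
    ∃ t : F, ¬ IsSquare t ∧ ¬ IsSquare (1 - t) := by
  haveI := Fintype.ofFinite F
  obtain ⟨n₀, hn₀⟩ := FiniteField.exists_nonsquare h2
  by_contra hc
  push Not at hc
  have hn0 : n₀ ≠ 0 := fun h => hn₀ (h ▸ IsSquare.zero)
  let S := {s : F // s ≠ 0 ∧ IsSquare s}
  have hns : ∀ s : S, ¬ IsSquare (n₀ * s.1) := fun s hs => hn₀ (by
    have := hs.mul s.2.2.inv
    rwa [mul_inv_cancel_right₀ s.2.1] at this)
  let f : S → S := fun s => ⟨1 - n₀ * s.1, fun h => hns s (by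
    rw [← sub_eq_zero.1 h]; exact IsSquare.one), hc _ (hns s)⟩
  have hf : Function.Injective f := fun a b h => by
    have h' : (1 : F) - n₀ * a.1 = 1 - n₀ * b.1 := congrArg Subtype.val h
    exact Subtype.ext (mul_left_cancel₀ hn0 (sub_right_injective h'))
  obtain ⟨s, hs⟩ := (Finite.injective_iff_surjective.1 hf) ⟨1, one_ne_zero, IsSquare.one⟩
  have h' : (1 : F) - n₀ * s.1 = 1 := congrArg Subtype.val hs
  exact s.2.1 ((mul_eq_zero.1 (sub_eq_self.1 h')).resolve_left hn0)

namespace RelSys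

variable {Γ : Type*} [Group Γ] (R : RelSys D F Γ) (hS : SLD D)
include hS

theorem nn_conj_self {i : ℕ} (hi : i < D.rank) {v : F} (hv : v ≠ 0) (a : F) :
    R.nn (D.simple i) v * R.y (D.simple i) a * (R.nn (D.simple i) v)⁻¹ =
        R.y (D.neg (D.simple i)) (-(a / v ^ 2)) ∧
      R.nn (D.simple i) v * R.y (D.neg (D.simple i)) a * (R.nn (D.simple i) v)⁻¹ =
        R.y (D.simple i) (-(v ^ 2 * a)) := by
  have hD := hS.good.toGood
  have hp := hD.simple_lt hi
  have hnp := hD.neg_lt hp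
  obtain ⟨h1, h2⟩ := hS.ng_conj_self hi hv a
  obtain ⟨γ, e⟩ := R.nn_conj_exists hS hi hp hv a
  obtain ⟨γ', e'⟩ := R.nn_conj_exists hS hi hnp hv a
  rw [hD.refl_simple hi] at e
  rw [hD.refl_neg_simple hi] at e'
  constructor
  · have h := congrArg R.π e
    rw [map_mul, map_mul, map_inv, R.π_nn hS hp, R.π_y _ hp, R.π_y _ hnp, h1] at h
    rw [e, ← hD.xg_injective hnp h]
  · have h := congrArg R.π e'
    rw [map_mul, map_mul, map_inv, R.π_nn hS hp, R.π_y _ hp, R.π_y _ hnp, h2] at h
    rw [e', ← hD.xg_injective hp h]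

theorem nn_eq' {i : ℕ} (hi : i < D.rank) {v : F} (hv : v ≠ 0) :
    R.nn (D.simple i) v = R.y (D.neg (D.simple i)) (-v⁻¹) * R.y (D.simple i) v *
      R.y (D.neg (D.simple i)) (-v⁻¹) := by
  calc R.nn (D.simple i) v = MulAut.conj (R.nn (D.simple i) v) (R.nn (D.simple i) v) := by
        rw [MulAut.conj_apply, mul_inv_cancel_right]
    _ = MulAut.conj (R.nn (D.simple i) v) (R.y (D.simple i) v) *
        MulAut.conj (R.nn (D.simple i) v) (R.y (D.neg (D.simple i)) (-v⁻¹)) *
        MulAut.conj (R.nn (D.simple i) v) (R.y (D.simple i) v) := by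
        rw [← map_mul, ← map_mul]; rfl
    _ = _ := by
        simp only [MulAut.conj_apply, (R.nn_conj_self hS hi hv v).1,
          (R.nn_conj_self hS hi hv (-v⁻¹)).2]
        congr 3 <;> field_simp

/-- Steinberg's identity. -/
theorem hh_mul_of_add {i : ℕ} (hi : i < D.rank) {t u : F} (ht : t ≠ 0) (hu : u ≠ 0) (h : t + u = 1) :
    R.hh (D.simple i) t * R.hh (D.simple i) u = R.hh (D.simple i) (t * u) := by
  have hD := hS.good.toGood
  have hp := hD.simple_lt hi
  have hnp := hD.neg_lt hp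
  set x := R.y (D.simple i) with hx
  set y := R.y (D.neg (D.simple i)) with hy
  set n := R.nn (D.simple i) with hn
  suffices hmain : n t * n (-1) * n u = n (t * u) by
    show n t * n (-1) * (n u * n (-1)) = n (t * u) * n (-1)
    rw [← hmain]; group
  have xadd : ∀ a b, x a * x b = x (a + b) := fun a b => (R.y_add _ hp a b).symm
  have yadd : ∀ a b, y a * y b = y (a + b) := fun a b => (R.y_add _ hnp a b).symm
  have ndef : ∀ v, n v = x v * y (-v⁻¹) * x v := fun v => rfl
  have ninv : ∀ v, (n v)⁻¹ = n (-v) := fun v => R.nn_inv hS hp v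
  have cx : ∀ {v}, v ≠ 0 → ∀ a, n v * x a = y (-(a / v ^ 2)) * n v := fun hv a =>
    mul_inv_eq_iff_eq_mul.1 (R.nn_conj_self hS hi hv a).1
  have cy : ∀ {v}, v ≠ 0 → ∀ a, n v * y a = x (-(v ^ 2 * a)) * n v := fun hv a =>
    mul_inv_eq_iff_eq_mul.1 (R.nn_conj_self hS hi hv a).2
  have hut : u / t ≠ 0 := div_ne_zero hu ht
  calc n t * n (-1) * n u
      = x t * y (-t⁻¹) * (x t * x (-1)) * y 1 * (x (-1) * x u) * y (-u⁻¹) * x u := by
        simp only [ndef, inv_neg, inv_one, neg_neg, mul_assoc]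
    _ = x t * y (-t⁻¹) * (x (-u) * y 1) * x (-t) * y (-u⁻¹) * x u := by
        rw [xadd, xadd, show t + -1 = -u by linear_combination h,
          show (-1 : F) + u = -t by linear_combination h]
        simp only [mul_assoc]
    _ = x t * y (-t⁻¹) * (n (-u) * x u * y (-(t / u))) * x (-t) * y (-u⁻¹) * x u := by
        have e : n (-u) * x u * y (-(t / u)) = x (-u) * y 1 := by
          rw [ndef, inv_neg, neg_neg, mul_assoc (x (-u) * y u⁻¹), xadd, neg_add_cancel,
            hx, R.y_zero hp, mul_one, ← hx, mul_assoc, yadd]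
          congr 2
          field_simp
          linear_combination -h
        rw [e]
    _ = n (-u) * (y (-(t / u ^ 2)) * (x (u ^ 2 / t) * x u) * y (-(t / u))) * x (-t) * y (-u⁻¹) * x u := by
        have h1 : y (-t⁻¹) * n (-u) = n (-u) * x (u ^ 2 / t) := by
          have h2 := cy hu (-t⁻¹)
          rw [show -(u ^ 2 * -t⁻¹) = u ^ 2 / t by field_simp] at h2
          rw [← ninv, eq_inv_mul_iff_mul_eq, ← mul_assoc, h2, mul_inv_cancel_right]
        have h3 : x t * n (-u) = n (-u) * y (-(t / u ^ 2)) := by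
          rw [← ninv, eq_inv_mul_iff_mul_eq, ← mul_assoc, cx hu t, mul_inv_cancel_right]
        calc x t * y (-t⁻¹) * (n (-u) * x u * y (-(t / u))) * x (-t) * y (-u⁻¹) * x u
            = x t * (y (-t⁻¹) * n (-u)) * x u * y (-(t / u)) * x (-t) * y (-u⁻¹) * x u := by group
          _ = (x t * n (-u)) * x (u ^ 2 / t) * x u * y (-(t / u)) * x (-t) * y (-u⁻¹) * x u := by
              rw [h1]; group
          _ = _ := by rw [h3]; group
    _ = n (-u) * (y (-(t ^ 2 / u ^ 2)) * n (u / t)) * x (-t) * y (-u⁻¹) * x u := by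
        have h1 : y (-(t / u ^ 2)) = y (-(t ^ 2 / u ^ 2)) * y (-(t / u)) := by
          rw [yadd]
          congr 1
          field_simp
          linear_combination h
        rw [h1, xadd, show u ^ 2 / t + u = u / t by field_simp; linear_combination h,
          show n (u / t) = y (-(t / u)) * x (u / t) * y (-(t / u)) by
            rw [hn, R.nn_eq' hS hi hut, ← hx, ← hy, inv_div]]
        simp only [mul_assoc]
    _ = n (-u) * n (u / t) * (x 1 * x (-t)) * y (-u⁻¹) * x u := by
        have h1 : y (-(t ^ 2 / u ^ 2)) * n (u / t) = n (u / t) * x 1 := by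
          have h2 := cy (neg_ne_zero.2 hut) (-(t ^ 2 / u ^ 2))
          rw [show -((-(u / t)) ^ 2 * -(t ^ 2 / u ^ 2)) = (1 : F) by field_simp] at h2
          rw [← neg_neg (u / t), ← ninv, eq_inv_mul_iff_mul_eq, ← mul_assoc, h2, mul_inv_cancel_right]
        rw [h1]
        simp only [mul_assoc]
    _ = n (-u) * n (u / t) * (n (-u))⁻¹ := by
        rw [xadd, show (1 : F) + -t = u by linear_combination -h, ninv, neg_neg, ndef u]
        simp only [mul_assoc]
    _ = n (t * u) := by
        have hu' : -u ≠ 0 := neg_ne_zero.2 hu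
        rw [ndef (u / t), show n (-u) * (x (u / t) * y (-(u / t)⁻¹) * x (u / t)) * (n (-u))⁻¹ =
          (n (-u) * x (u / t) * (n (-u))⁻¹) * (n (-u) * y (-(u / t)⁻¹) * (n (-u))⁻¹) *
            (n (-u) * x (u / t) * (n (-u))⁻¹) by group, (R.nn_conj_self hS hi hu' _).1,
          (R.nn_conj_self hS hi hu' _).2, hn, R.nn_eq' hS hi (mul_ne_zero ht hu), ← hy, ← hx]
        congr 3 <;> field_simp

theorem hh_one {r : ℕ} (hr : r < D.nroots) : R.hh r 1 = 1 := by
  rw [hh, ← R.nn_inv hS hr, mul_inv_cancel]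

theorem hh_conj_hh {i j : ℕ} (hi : i < D.rank) (hj : j < D.rank) {u : F} (hu : u ≠ 0) {t : F}
    (ht : t ≠ 0) :
    R.hh (D.simple j) u * R.hh (D.simple i) t * (R.hh (D.simple j) u)⁻¹ =
      R.hh (D.simple i) (u ^ D.cartan j (D.simple i) * t) *
        (R.hh (D.simple i) (u ^ D.cartan j (D.simple i)))⁻¹ := by
  have hD := hS.good.toGood
  have hp := hD.simple_lt hi
  set k := D.cartan j (D.simple i)
  have key : ∀ a, R.hh (D.simple j) u * R.nn (D.simple i) a * (R.hh (D.simple j) u)⁻¹ =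
      R.nn (D.simple i) (u ^ k * a) := by
    intro a
    rw [← MulAut.conj_apply]
    simp only [nn, map_mul, MulAut.conj_apply]
    rw [R.hh_conj hS (hD.simple_lt hj) hp hu, R.hh_conj hS (hD.simple_lt hj) (hD.neg_lt hp) hu,
      hS.pairing_neg hp, hD.pairing_simple hj]
    congr 3
    rw [zpow_neg, _root_.mul_inv, mul_neg]
  calc _ = (R.hh (D.simple j) u * R.nn (D.simple i) t * (R.hh (D.simple j) u)⁻¹) *
        (R.hh (D.simple j) u * R.nn (D.simple i) (-1) * (R.hh (D.simple j) u)⁻¹) := by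
        simp only [hh]; group
    _ = _ := by
        rw [key, key, mul_neg_one, ← R.nn_inv hS hp]
        simp only [hh, _root_.mul_inv_rev]
        group

variable (T : Model D) (hgen : Subgroup.closure {g | ∃ r t, r < D.nroots ∧ g = R.y r t} = ⊤)

theorem hh_mem_H {r : ℕ} (hr : r < D.nroots) {c : F} (hc : c ≠ 0) :
    R.hh r c ∈ (R.rootRel hS T).H :=
  R.rootRel_hr hS T ⟨r, T.n_eq.symm ▸ hr⟩ c ▸ (R.rootRel hS T).hr_mem_H hc

include T hgen

theorem delta_central {r : ℕ} (hr : r < D.nroots) {a b : F} (ha : a ≠ 0) (hb : b ≠ 0) :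
    R.hh r a * R.hh r b * (R.hh r (a * b))⁻¹ ∈ Subgroup.center Γ := by
  refine R.mem_center_of_H hS T hgen (mul_mem (mul_mem (R.hh_mem_H hS T hr ha) (R.hh_mem_H hS T hr hb))
    (inv_mem (R.hh_mem_H hS T hr (mul_ne_zero ha hb)))) ?_
  rw [map_mul, map_mul, map_inv, R.π_hh hS hr, R.π_hh hS hr, R.π_hh hS hr,
    hS.good.toGood.hg_mul hr ha hb, mul_inv_cancel]

theorem delta_eq_one [Finite F] {i : ℕ} (hi : i < D.rank) (a b : Fˣ) :
    R.hh (D.simple i) (a : F) * R.hh (D.simple i) (b : F) = R.hh (D.simple i) ((a : F) * b) := by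
  have hD := hS.good.toGood
  haveI := Fintype.ofFinite F
  classical
  obtain ⟨j, hj, hk⟩ := hS.exists_nbr hi
  have hp := hD.simple_lt hi
  have hq := hD.simple_lt hj
  set h : Fˣ → Γ := fun t => R.hh (D.simple i) (t : F) with hh'
  set c : Fˣ → Γ := fun t => R.hh (D.simple j) ((t⁻¹ : Fˣ) : F) with hc'
  let δ : Fˣ → Fˣ → Γ := fun t u => h t * h u * (h (t * u))⁻¹
  have hδc : ∀ t u, δ t u ∈ Subgroup.center Γ := fun t u => by
    simp only [δ, hh', Units.val_mul]
    exact R.delta_central hS T hgen hp t.ne_zero u.ne_zero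
  have hδ : ∀ t u, ⁅c u, h t⁆ = (δ t u)⁻¹ := by
    intro t u
    rw [commutatorElement_def, hc', hh', R.hh_conj_hh hS hi hj (Units.ne_zero _) t.ne_zero, hk,
      zpow_neg_one, Units.val_inv_eq_inv_val, inv_inv]
    simp only [δ, hh', Units.val_mul, mul_comm (t : F) (u : F), _root_.mul_inv_rev, inv_inv]
    group
  have hzl : ∀ z ∈ Subgroup.center Γ, ∀ v w : Γ, ⁅z * v, w⁆ = ⁅v, w⁆ := fun z hz v w => by
    have hc := Subgroup.mem_center_iff.1 hz
    rw [commutatorElement_def, commutatorElement_def,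
      show z * v * w * (z * v)⁻¹ = z * (v * w * v⁻¹) * z⁻¹ by group, ← hc (v * w * v⁻¹),
      mul_inv_cancel_right]
  have hzr : ∀ z ∈ Subgroup.center Γ, ∀ v w : Γ, ⁅v, z * w⁆ = ⁅v, w⁆ := fun z hz v w => by
    rw [← inv_inj, commutatorElement_inv, commutatorElement_inv, hzl z hz]
  have hl : ∀ t t' u, δ (t * t') u = δ t u * δ t' u := by
    intro t t' u
    have e1 : ⁅c u, h t * h t'⁆ = ⁅c u, h (t * t')⁆ := by
      rw [show h t * h t' = δ t t' * h (t * t') by simp only [δ]; group, hzr _ (hδc t t')]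
    rw [show ⁅c u, h t * h t'⁆ = ⁅c u, h t⁆ * (h t * ⁅c u, h t'⁆ * (h t)⁻¹) by
        simp only [commutatorElement_def]; group, hδ, hδ, hδ,
      Subgroup.mem_center_iff.1 (inv_mem (hδc t' u)) (h t), mul_inv_cancel_right,
      ← _root_.mul_inv_rev] at e1
    rw [← inv_inj.1 e1, Subgroup.mem_center_iff.1 (hδc t u)]
  have hr : ∀ t u u', δ t (u * u') = δ t u * δ t u' := by
    intro t u u'
    have hz := R.delta_central hS T hgen hq (a := ((u⁻¹ : Fˣ) : F)) (b := ((u'⁻¹ : Fˣ) : F))
      (Units.ne_zero _) (Units.ne_zero _)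
    have e1 : ⁅c u * c u', h t⁆ = ⁅c (u * u'), h t⁆ := by
      rw [show c u * c u' = (c u * c u' * (c (u * u'))⁻¹) * c (u * u') by group, hzl]
      simpa [hc', mul_inv, mul_comm] using hz
    rw [show ⁅c u * c u', h t⁆ = c u * ⁅c u', h t⁆ * (c u)⁻¹ * ⁅c u, h t⁆ by
        simp only [commutatorElement_def]; group, hδ, hδ, hδ,
      Subgroup.mem_center_iff.1 (inv_mem (hδc t u')) (c u), mul_inv_cancel_right,
      ← _root_.mul_inv_rev] at e1
    exact (inv_inj.1 e1).symm
  obtain ⟨g, hg⟩ := IsCyclic.exists_monoid_generator (α := Fˣ)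
  have h1l : ∀ u, δ 1 u = 1 := fun u => by simpa using hl 1 1 u
  have h1r : ∀ t, δ t 1 = 1 := fun t => by simpa using hr t 1 1
  have hpowl : ∀ (n : ℕ) u, δ (g ^ n) u = δ g u ^ n := by
    intro n u
    induction n with
    | zero => simpa using h1l u
    | succ n ih => rw [pow_succ, pow_succ, hl, ih]
  have hpow : ∀ n m : ℕ, δ (g ^ n) (g ^ m) = δ g g ^ (n * m) := by
    intro n m
    rw [hpowl]
    have : δ g (g ^ m) = δ g g ^ m := by
      induction m with
      | zero => simpa using h1r g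
      | succ m ih => rw [pow_succ, pow_succ, hr, ih]
    rw [this, ← pow_mul, mul_comm n m]
  have hsym : ∀ t u, δ t u = δ u t := fun t u => by
    obtain ⟨n, rfl⟩ := hg t
    obtain ⟨m, rfl⟩ := hg u
    rw [hpow, hpow, mul_comm]
  have hcomm : ∀ t u, h t * h u = h u * h t := fun t u => by
    have := hsym t u
    simp only [δ, mul_comm u t] at this
    exact mul_right_cancel this
  have hsq : δ g g ^ 2 = 1 := by
    have e := R.hh_conj_hh hS hi hi g.ne_zero g.ne_zero
    rw [hD.cartan_self hi] at e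
    have e2 : h g = h (g ^ 2 * g) * (h (g ^ 2))⁻¹ := by
      have hc2 := hcomm g g
      simp only [hh', Units.val_mul, Units.val_pow_eq_pow_val] at hc2 ⊢
      rw [show ((g : F) ^ 2) = (g : F) ^ (2 : ℤ) by norm_cast, ← e, mul_inv_cancel_right]
    have e3 : δ g (g ^ 2) = 1 := by
      simp only [δ]
      rw [mul_comm g (g ^ 2), mul_inv_eq_one]
      conv_lhs => rw [e2]
      rw [inv_mul_cancel_right]
    rw [← e3]
    simpa using (hpow 1 2).symm
  have hcard : δ g g ^ (Fintype.card F - 1) = 1 := by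
    have := hpow (Fintype.card F - 1) 1
    rw [← Fintype.card_units, pow_card_eq_one, h1l, mul_one, Fintype.card_units] at this
    exact this.symm
  have hE : δ g g = 1 := by
    by_cases hev : Even (Fintype.card F)
    · obtain ⟨e, he⟩ : ∃ e, Fintype.card F - 1 = 2 * e + 1 := by
        obtain ⟨a, ha⟩ := hev
        have := Fintype.card_pos (α := F)
        exact ⟨a - 1, by omega⟩
      rw [he, pow_succ, pow_mul, hsq, one_pow, one_mul] at hcard
      exact hcard
    · have h2 : ringChar F ≠ 2 := fun h2 =>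
        hev (Nat.even_iff.2 (FiniteField.even_card_iff_char_two.1 h2))
      obtain ⟨t, ht, hu⟩ := exists_nonsquare_pair h2
      have ht0 : t ≠ 0 := fun h => ht (h ▸ IsSquare.zero)
      have hu0 : 1 - t ≠ 0 := fun h => hu (h ▸ IsSquare.zero)
      have hrel := R.hh_mul_of_add hS hi ht0 hu0 (by ring)
      have hodd : ∀ x : Fˣ, ¬ IsSquare (x : F) → ∃ a : ℕ, x = g ^ (2 * a + 1) := by
        intro x hx
        obtain ⟨n, rfl⟩ := hg x
        rcases Nat.even_or_odd n with ⟨a, rfl⟩ | ⟨a, rfl⟩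
        · exact absurd ⟨((g ^ a : Fˣ) : F), by simp [pow_add]⟩ hx
        · exact ⟨a, rfl⟩
      obtain ⟨a, ha⟩ := hodd (Units.mk0 t ht0) ht
      obtain ⟨b, hb⟩ := hodd (Units.mk0 (1 - t) hu0) hu
      have hd : δ (Units.mk0 t ht0) (Units.mk0 (1 - t) hu0) = 1 := by
        simp only [δ, hh', Units.val_mul, Units.val_mk0]
        rw [hrel, mul_inv_cancel]
      rw [ha, hb, hpow] at hd
      rwa [show (2 * a + 1) * (2 * b + 1) = 2 * (2 * a * b + a + b) + 1 by ring, pow_succ, pow_mul,
        hsq, one_pow, one_mul] at hd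
  have hfin : δ a b = 1 := by
    obtain ⟨n, rfl⟩ := hg a
    obtain ⟨m, rfl⟩ := hg b
    rw [hpow, hE, one_pow]
  simp only [δ, hh', Units.val_mul, mul_inv_eq_one] at hfin
  exact hfin

end RelSys

end Cfsg.Agent.KnownSimple.Steinberg
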